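import Cfsg.Agent.N2.Cl.Cyc.Ord
import Cfsg.Agent.LieClassical.HermBasic

/-!
# N2 (S3519), classical socles: isometries with a cyclic vector (helper58)

* `CycV g`, constructors `cycV_of_irr`, `cycV_of_minpoly`, `cycV_of_two`, `orb_add`;
* `cO_le_L` (`q^n - 1`), `cU_le_U` (`(q + 1)^n`), `cU_le_bil` (`2^s (q + 1)^(n / 2)`), `cU_le_irr_U`, `cU_le_irr_bil`;
* blocks: `cU_le_mul`, `cO_le_O_mul`, `cU_le_IsoV`.
-/

set_option autoImplicit false
set_option linter.unusedSectionVars false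

namespace Cfsg.Agent.N2C.Cyc

open Subgroup Module Polynomial Cfsg.Agent.DS.Cl Cfsg.Agent.DS.Cl.Fwd Cfsg.Agent.SB.Cl
open Cfsg.Agent.SB.Fld (prL)
open Cfsg.Agent.LieClassical.OrthCore (O)

section lin

variable {K V : Type} [Field K] [AddCommGroup V] [Module K V] {g : End K V}

/-- `g` has a cyclic vector -/
def CycV (g : End K V) : Prop := ∃ v, ∀ x, ∃ f : K[X], aeval g f v = x

/-- `g` is irreducible -/
def IrrV (g : End K V) : Prop := ∀ W : Submodule K V, (∀ w ∈ W, g w ∈ W) → W = ⊥ ∨ W = ⊤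

theorem aeval_comm {x : End K V} (hx : x * g = g * x) (f : K[X]) : x * aeval g f = aeval g f * x :=
  Algebra.commute_of_mem_adjoin_singleton_of_commute (aeval_mem_adjoin_singleton K g) hx

theorem aeval_mul_apply (g : End K V) (f f' : K[X]) (v : V) : aeval g (f * f') v = aeval g f (aeval g f' v) := by
  rw [map_mul, End.mul_apply]

/-- the kernel of a polynomial in `g` is invariant under the centraliser -/
theorem ker_inv {x : End K V} (hx : x * g = g * x) (f : K[X]) {v : V} (hv : aeval g f v = 0) : aeval g f (x v) = 0 := by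
  rw [← End.mul_apply, ← aeval_comm hx, End.mul_apply, hv, map_zero]

/-- the cyclic submodule -/
def orb (g : End K V) (v : V) : Submodule K V where
  carrier := {x | ∃ f : K[X], aeval g f v = x}
  zero_mem' := ⟨0, by simp⟩
  add_mem' := by
    rintro _ _ ⟨f, rfl⟩ ⟨f', rfl⟩
    exact ⟨f + f', by simp⟩
  smul_mem' := by
    rintro c _ ⟨f, rfl⟩
    exact ⟨c • f, by simp⟩

theorem self_mem_orb (g : End K V) (v : V) : v ∈ orb g v := ⟨1, by simp⟩

theorem map_mem_orb {v x : V} (hx : x ∈ orb g v) : g x ∈ orb g v := by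
  obtain ⟨f, rfl⟩ := hx
  exact ⟨X * f, by rw [aeval_mul_apply, aeval_X]⟩

theorem pow_mem_orb (g : End K V) (v : V) (i : ℕ) : (g ^ i) v ∈ orb g v := ⟨X ^ i, by simp⟩

theorem orb_le {v w : V} (hw : w ∈ orb g v) : orb g w ≤ orb g v := by
  obtain ⟨f, rfl⟩ := hw
  rintro _ ⟨f', rfl⟩
  exact ⟨f' * f, aeval_mul_apply _ _ _ _⟩

theorem cycV_iff : CycV g ↔ ∃ v, orb g v = ⊤ := exists_congr fun v => (Submodule.eq_top_iff' (p := orb g v)).symm

/-- vectors with coprime annihilators -/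
theorem orb_add {v w : V} {f f' : K[X]} (hc : IsCoprime f f') (hv : aeval g f v = 0) (hw : aeval g f' w = 0) :
    orb g v ⊔ orb g w ≤ orb g (v + w) ∧ aeval g (f * f') (v + w) = 0 := by
  obtain ⟨a, b, hab⟩ := hc
  have h1 : ∀ x, aeval g a (aeval g f x) + aeval g b (aeval g f' x) = x := fun x => by
    rw [← aeval_mul_apply, ← aeval_mul_apply, ← LinearMap.add_apply, ← map_add, hab, map_one, End.one_apply]
  refine ⟨sup_le (orb_le ⟨b * f', ?_⟩) (orb_le ⟨a * f, ?_⟩), ?_⟩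
  · simpa only [aeval_mul_apply, map_add, hv, hw, map_zero, zero_add, add_zero] using h1 v
  · simpa only [aeval_mul_apply, map_add, hv, hw, map_zero, zero_add, add_zero] using h1 w
  · rw [map_add, aeval_mul_apply g f f' w, hw, map_zero, add_zero, mul_comm, aeval_mul_apply, hv, map_zero]

theorem cycV_of_two {v w : V} {f f' : K[X]} (hc : IsCoprime f f') (hv : aeval g f v = 0) (hw : aeval g f' w = 0)
    (h : orb g v ⊔ orb g w = ⊤) : CycV g := cycV_iff.2 ⟨v + w, top_unique (h.ge.trans (orb_add hc hv hw).1)⟩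

theorem cycV_of_irr (h : IrrV g) : CycV g := by
  rcases subsingleton_or_nontrivial V with _ | _
  · exact ⟨0, fun x => ⟨0, Subsingleton.elim _ _⟩⟩
  obtain ⟨v, hv⟩ := exists_ne (0 : V)
  exact cycV_iff.2 ⟨v, (h _ fun _ => map_mem_orb).resolve_left fun e => hv (e.le (self_mem_orb g v))⟩

/-- the minimal polynomial has the largest possible degree -/
theorem cycV_of_minpoly [Module.Finite K V] (h : finrank K V ≤ (minpoly K g).natDegree) : CycV g := by
  obtain ⟨v, hv⟩ := Module.exists_ker_toSpanSingleton_eq_annihilator (R := K[X]) (M := AEval' g)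
  let w : V := (AEval'.of g).symm v
  have h1 : ∀ f : K[X], aeval g f w = 0 → minpoly K g ∣ f := fun f hf => by
    have h2 : f ∈ Module.annihilator K[X] (AEval' g) := hv.le (show f • v = 0 from hf)
    exact minpoly.dvd K g (LinearMap.ext fun x => Module.mem_annihilator.1 h2 (AEval'.of g x))
  refine cycV_iff.2 ⟨w, Submodule.eq_top_of_finrank_eq (le_antisymm (Submodule.finrank_le _) ?_)⟩
  have h3 : LinearIndependent K fun i : Fin (finrank K V) => (⟨(g ^ (i : ℕ)) w, pow_mem_orb g w i⟩ : orb g w) := by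
    refine Fintype.linearIndependent_iff.2 fun c hc i => ?_
    have h4 := h1 (∑ j : Fin (finrank K V), C (c j) * X ^ (j : ℕ)) (by
      simpa [Algebra.algebraMap_eq_smul_one] using congrArg Subtype.val hc)
    have h5 : (∑ j : Fin (finrank K V), C (c j) * X ^ (j : ℕ) : K[X]) = 0 :=
      eq_zero_of_dvd_of_degree_lt h4 ((degree_sum_fin_lt c).trans_le (by
        rw [degree_eq_natDegree (minpoly.ne_zero (LinearMap.isIntegral g))]
        exact_mod_cast h))
    simpa [coeff_X_pow, Fin.val_inj] using congrArg (coeff · i) h5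
  simpa using h3.fintype_card_le_finrank

theorem CycV.exists_poly (hg : CycV g) {x : End K V} (hx : x * g = g * x) : ∃ f : K[X], x = aeval g f := by
  obtain ⟨v, hv⟩ := hg
  obtain ⟨f, hf⟩ := hv (x v)
  refine ⟨f, LinearMap.ext fun w => ?_⟩
  obtain ⟨f', rfl⟩ := hv w
  rw [← End.mul_apply, aeval_comm hx, End.mul_apply, ← hf, ← aeval_mul_apply, mul_comm, aeval_mul_apply]

theorem CycV.comm (hg : CycV g) {x y : End K V} (hx : x * g = g * x) (hy : y * g = g * y) : x * y = y * x := by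
  obtain ⟨f, rfl⟩ := hg.exists_poly hy
  exact aeval_comm hx f

theorem CycV.inj (hg : CycV g) : ∃ v, ∀ x y : End K V, x * g = g * x → y * g = g * y → x v = y v → x = y := by
  obtain ⟨v, hv⟩ := hg
  refine ⟨v, fun x y hx hy e => LinearMap.ext fun w => ?_⟩
  obtain ⟨f, rfl⟩ := hv w
  rw [← End.mul_apply, aeval_comm hx, ← End.mul_apply y, aeval_comm hy, End.mul_apply, End.mul_apply, e]

theorem IrrV.isUnit [Module.Finite K V] (h : IrrV g) {x : End K V} (hx : x * g = g * x) (h0 : x ≠ 0) : IsUnit x :=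
  (LinearMap.isUnit_iff_ker_eq_bot x).2 ((h _ fun w hw => by
    rw [LinearMap.mem_ker, ← End.mul_apply, hx, End.mul_apply, LinearMap.mem_ker.1 hw, map_zero]).resolve_right
      fun e => h0 (LinearMap.ker_eq_top.1 e))

end lin

/-- the centraliser is a field with at most `ν²` elements and a non-trivial involution -/
theorem cU_le_field' {A : Type} [Ring A] [StarRing A] [Finite A] {u : A} (hu : u * star u = 1) (h : IsCyc u)
    (hf : ∀ x : A, x * u = u * x → x ≠ 0 → IsUnit x) {y : A} (hy : y * u = u * y) (hy' : star y ≠ y) {ν : ℕ}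
    (hν : cA u ≤ ν ^ 2) : cU u ≤ ν + 1 := by
  have h1 : (y - star y) * u = u * (y - star y) := by
    rw [sub_mul, mul_sub, hy, star_comm hu (mul_eq_one_comm.1 hu) hy]
  have h2 := hf _ h1 (sub_ne_zero.2 hy'.symm)
  obtain ⟨w, hw⟩ := Cn.isUnit (h := h) (x := Cn.mk h _ h1) h2
  have h3 : Cn.sg h hu w = -w := Cn.val_inj (by
    rw [Cn.val_sg, map_neg, hw]
    exact (star_sub _ _).trans (by rw [star_star]; exact (neg_sub _ _).symm))
  have h4 : Cn.sg h hu (w⁻¹ : (Cn h)ˣ) = -(w⁻¹ : (Cn h)ˣ) := by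
    rw [← Units.mul_right_inj w, mul_neg, Units.mul_inv, ← neg_eq_iff_eq_neg, ← neg_mul, ← h3, ← map_mul, Units.mul_inv,
      map_one]
  have h5 : Cn.mk h y hy * (w⁻¹ : (Cn h)ˣ) + Cn.sg h hu (Cn.mk h y hy * (w⁻¹ : (Cn h)ˣ)) = 1 := by
    rw [map_mul, h4, mul_neg, ← sub_eq_add_neg, ← sub_mul, Units.mul_inv_eq_one, hw]
    rfl
  refine (cU_le_field hu h hf hy hy').trans (Nat.succ_le_succ ((Nat.pow_le_pow_iff_left two_ne_zero).1 (le_trans ?_ hν)))
  exact cS_sq_le_unit hu h (Cn.comm (Cn.mk h y hy * ((w⁻¹ : (Cn h)ˣ) : Cn h))) (congrArg Cn.val h5) h1 (by rw [star_sub, star_star, neg_sub]) h2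

variable {K V : Type} [Field K] [Fintype K] [AddCommGroup V] [Module K V] [Finite V]

theorem card_V (K V : Type) [Field K] [Fintype K] [AddCommGroup V] [Module K V] [Finite V] :
    Nat.card V = Fintype.card K ^ finrank K V := by
  have : Module.Finite K V := Module.Finite.of_finite
  rw [Module.natCard_eq_pow_finrank (K := K), Nat.card_eq_fintype_card]

theorem CycV.card_le {g : End K V} (hg : CycV g) :
    Nat.card {x : End K V // x * g = g * x} ≤ Fintype.card K ^ finrank K V := by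
  obtain ⟨v, hv⟩ := hg.inj
  rw [← card_V]
  exact Nat.card_le_card_of_injective (fun x => x.1 v) fun x y e => Subtype.ext (hv _ _ x.2 y.2 e)

/-- **linear groups** -/
theorem cO_le_L {n : ℕ} (hn : 0 < n) (F : FR (LR (Fin n) K)) {u : (LR (Fin n) K)ˣ} (hu : CycV (prL n K u)) :
    cO F u ≤ Fintype.card K ^ n - 1 := by
  classical
  have : Nonempty (Fin n) := ⟨⟨0, hn⟩⟩
  obtain ⟨v, hv⟩ := hu.inj
  have h1 : ∀ x : (LR (Fin n) K)ˣ, x * u = u * x → prL n K x * prL n K u = prL n K u * prL n K x := fun x hx => by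
    rw [← map_mul, ← map_mul, ← Units.val_mul, hx, Units.val_mul]
  have h2 : Nat.card {w : Fin n → K // w ≠ 0} = Fintype.card K ^ n - 1 := by
    simp [Fintype.card_subtype_compl]
  rw [← h2]
  refine Nat.card_le_card_of_injective (fun x => ⟨prL n K x.1 v, fun e => ?_⟩) fun x y e => Subtype.ext ?_
  · exact ((Units.isUnit x.1).map (prL n K)).ne_zero (hv _ 0 (h1 _ x.2.2) (by simp) e)
  · obtain ⟨a, ha⟩ := (Iso_L F).le x.2.1
    obtain ⟨b, hb⟩ := (Iso_L F).le y.2.1
    have h3 := hv _ _ (h1 _ x.2.2) (h1 _ y.2.2) (Subtype.mk.inj e)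
    rw [← ha, ← hb] at h3 ⊢
    exact congrArg _ (Units.ext (Matrix.toLinAlgEquiv'.injective h3))

variable {h : HF K V} {u : h.EB}

theorem CycV.isCyc (hu : CycV (h.ap u)) : IsCyc u := fun _ _ hx hy => hu.comm hx hy

theorem CycV.cA_le (hu : CycV (h.ap u)) : cA u ≤ Fintype.card K ^ finrank K V := hu.card_le

theorem sc_comm (c : K) (x : h.EB) : h.eb (c • 1) * x = x * h.eb (c • 1) :=
  (Subring.mem_center_iff.1 (h.smul_mem_center c) x).symm

theorem sc_star (c : K) : star (h.eb (c • 1)) = h.eb (h.τ c • 1) := h.ap_ext fun y => h.ext_right fun x => by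
  rw [h.b_star]
  exact (h.smul_left c x y).trans (by
    change _ = h.b x (h.τ c • y)
    rw [h.smul_right, h.τ_τ])

theorem sc_unit {c d : K} (hcd : c ≠ d) : IsUnit (h.eb (c • 1) - h.eb (d • 1)) :=
  IsUnit.of_mul_eq_one (h.eb ((c - d)⁻¹ • 1)) (h.ap_ext fun v => by
    change c • (c - d)⁻¹ • v - d • (c - d)⁻¹ • v = v
    rw [← sub_smul, smul_smul, mul_inv_cancel₀ (sub_ne_zero.2 hcd), one_smul])

/-- **unitary groups** -/
theorem cU_le_U (hU : IsU h) {q : ℕ} (hq : Fintype.card K = q ^ 2) (hu : u * star u = 1) (hc : CycV (h.ap u)) :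
    cU u ≤ (q + 1) ^ finrank K V := by
  obtain ⟨θ, hθ⟩ := hU.2
  have l := SB.Fld.luU h hθ
  have h1 := LieClassical.HermBasic.card_fixed hq
  have h2 := cU_le_unit hu hc.isCyc (Subring.mem_center_iff.1 l.c_cen u).symm l.c_add (sc_comm θ u) l.θ_unit
    (fun c : {x : K // x ^ q = x} => h.eb (c.1 • 1)) (fun c => sc_comm _ u) (fun c => by rw [sc_star, tau_pow hU hq, c.2])
    (fun c d hcd => sc_unit fun e => hcd (Subtype.ext e)) (ν := finrank K V)
    (by rw [h1]; exact ClassicalGeometry.GUBasic.two_le hq) (by rw [h1, ← pow_mul, mul_comm, pow_mul, ← hq]; exact hc.cA_le)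
  rwa [h1] at h2

theorem cU_le_irr_U (hU : IsU h) {q : ℕ} (hq : Fintype.card K = q ^ 2) (hu : u * star u = 1) (hc : IrrV (h.ap u)) :
    cU u ≤ q ^ finrank K V + 1 := by
  have : Module.Finite K V := Module.Finite.of_finite
  rcases subsingleton_or_nontrivial V with _ | _
  · refine le_trans (Finite.card_le_one_iff_subsingleton.2 ⟨fun a b => Subtype.ext (h.ap_ext fun _ => ?_)⟩) (by omega)
    exact Subsingleton.elim _ _
  obtain ⟨θ, hθ⟩ := hU.2
  refine cU_le_field' hu (cycV_of_irr hc).isCyc (fun x hx => hc.isUnit hx) (sc_comm θ u) (fun e => ?_)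
    (by rw [← pow_mul, mul_comm, pow_mul, ← hq]; exact (cycV_of_irr hc).cA_le)
  obtain ⟨v, hv⟩ := exists_ne (0 : V)
  rw [sc_star] at e
  exact hθ (smul_left_injective K hv (congrArg (fun x => h.ap x v) e))

/-- the skew elements form a subspace -/
theorem cS_le_of_sq (hτ : ∀ c, h.τ c = c) {n : ℕ} (H : cS u ^ 2 ≤ Fintype.card K ^ n) :
    cS u ≤ Fintype.card K ^ (n / 2) := by
  let W : Submodule K (End K V) :=
    { carrier := {x | star (h.eb x) = -h.eb x ∧ h.eb x * u = u * h.eb x}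
      zero_mem' := ⟨(star_zero h.EB).trans neg_zero.symm, (zero_mul u).trans (mul_zero u).symm⟩
      add_mem' := fun {a b} ha hb => ⟨(star_add (h.eb a) (h.eb b)).trans (by rw [ha.1, hb.1]; exact (neg_add _ _).symm),
        (add_mul (h.eb a) (h.eb b) u).trans (by rw [ha.2, hb.2]; exact (mul_add _ _ _).symm)⟩
      smul_mem' := fun c a ha => ⟨by rw [h.eb_smul, star_mul, ha.1, sc_star, hτ, sc_comm, neg_mul],
        by rw [h.eb_smul, mul_assoc, ha.2, ← mul_assoc, sc_comm, mul_assoc]⟩ }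
  have : Finite (End K V) := inferInstanceAs (Finite h.EB)
  have h1 : cS u = Fintype.card K ^ finrank K W := card_V K W
  rw [h1, ← pow_mul, Nat.pow_le_pow_iff_right Fintype.one_lt_card] at H
  rw [h1]
  exact Nat.pow_le_pow_right Fintype.card_pos (by omega)

/-- the scalars of the centraliser -/
def scC (hc : IsCyc u) : K →+* Cn hc where
  toFun c := Cn.mk hc (h.eb (c • 1)) (sc_comm c u)
  map_one' := Cn.val_inj (one_smul K (1 : End K V))
  map_mul' c d := Cn.val_inj (h.ap_ext fun v => mul_smul c d v)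
  map_zero' := Cn.val_inj (zero_smul K (1 : End K V))
  map_add' c d := Cn.val_inj (add_smul c d (1 : End K V))

theorem CycV.eval (hc : CycV (h.ap u)) (x : Cn hc.isCyc) : ∃ f : K[X], x = f.eval₂ (scC hc.isCyc) (Cn.mk _ u rfl) := by
  obtain ⟨f, hf⟩ := hc.exists_poly (x := h.ap (Cn.val x)) x.comm
  refine ⟨f, Cn.val_inj ?_⟩
  rw [hom_eval₂]
  exact hf

/-- **symplectic and orthogonal groups**.  `c` : `exists_tr_of_unit`, `exists_tr_of_two`, `exists_tr_of_pow`;
`S` contains the eigenvalues `1`, `-1` of `u` -/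
theorem cU_le_bil (hτ : ∀ c, h.τ c = c) (hu : u * star u = 1) (hc : CycV (h.ap u)) {c : h.EB} (h1 : c * u = u * c)
    (h2 : c + star c = 1) (S : Finset K) (hS : ∀ ε : K, ε = 1 ∨ ε = -1 → ¬ IsUnit (u - h.eb (ε • 1)) → ε ∈ S) :
    cU u ≤ 2 ^ S.card * (Fintype.card K + 1) ^ (finrank K V / 2) := by
  classical
  let a : Cn hc.isCyc := Cn.mk _ u rfl
  have ha : a * Cn.sg hc.isCyc hu a = 1 := Cn.val_inj hu
  have h3 : ∀ k, Cn.sg hc.isCyc hu (scC hc.isCyc k) = scC hc.isCyc k := fun k => Cn.val_inj ((sc_star k).trans (by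
    rw [hτ]; rfl))
  have h4 : cS u ^ 2 ≤ cA u := by
    rw [cS_eq hc.isCyc hu, cA_eq hc.isCyc]
    refine N2.Cy.sk_sq_le_gen (c := Cn.mk _ c h1) (Cn.sg_sg _ hu) (Cn.val_inj h2) ha fun P k1 k2 => top_unique fun x _ => ?_
    obtain ⟨f, rfl⟩ := hc.eval x
    rw [eval₂_eq_sum_range]
    exact sum_mem fun i _ => mul_mem (k1 _ (h3 _)) (pow_mem k2 _)
  have h5 := cU_le hu hc.isCyc h1 h2 (fun k : K => h.eb (k • 1)) (fun k => sc_comm k u) (fun k => by rw [sc_star, hτ])
    (fun _ _ => sc_unit) (S.image fun ε => Ideal.span {a - scC _ ε}) (fun M hM k => ?_) (ν := finrank K V / 2)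
    (by rw [Nat.card_eq_fintype_card]; exact two_le_q K)
    (by rw [Nat.card_eq_fintype_card]; exact cS_le_of_sq hτ (h4.trans hc.cA_le))
  · rw [Nat.card_eq_fintype_card] at h5
    exact h5.trans (Nat.mul_le_mul_right _ (Nat.pow_le_pow_right two_pos Finset.card_image_le))
  obtain ⟨ε, e1, e2⟩ : ∃ ε : K, (ε = 1 ∨ ε = -1) ∧ a - scC _ ε ∈ M := by
    rcases N2.Cy.triv_cases ha hM k with e | e
    · exact ⟨1, Or.inl rfl, by rwa [map_one]⟩
    · exact ⟨-1, Or.inr rfl, by rwa [map_neg, map_one, sub_neg_eq_add]⟩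
  refine Finset.mem_image.2 ⟨ε, hS ε e1 fun e => hM.ne_top (M.eq_top_of_isUnit_mem e2 (Cn.isUnit e)),
    (N2.Cy.eq_span (fun x => ?_) hM e2).symm⟩
  obtain ⟨f, rfl⟩ := hc.eval x
  refine ⟨scC _ (f.eval ε), (eq_or_ne (f.eval ε) 0).imp (fun e => by rw [e, map_zero]) fun e => (IsUnit.mk0 _ e).map _, ?_⟩
  rw [Ideal.mem_span_singleton, ← eval₂_at_apply, eval₂_eq_eval_map, eval₂_eq_eval_map]
  exact sub_dvd_eval_sub _ _ _

theorem cU_le_bil_four (hτ : ∀ c, h.τ c = c) (hu : u * star u = 1) (hc : CycV (h.ap u)) {c : h.EB} (h1 : c * u = u * c)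
    (h2 : c + star c = 1) : cU u ≤ 4 * (Fintype.card K + 1) ^ (finrank K V / 2) := by
  classical
  exact (cU_le_bil hτ hu hc h1 h2 {1, -1} fun ε e _ => by simpa using e).trans
    (Nat.mul_le_mul_right _ (Nat.pow_le_pow_right two_pos Finset.card_le_two))

/-- no eigenvalue one -/
theorem cU_le_bil_two (hτ : ∀ c, h.τ c = c) (hu : u * star u = 1) (hc : CycV (h.ap u)) (h1 : IsUnit (u - 1)) :
    cU u ≤ 2 * (Fintype.card K + 1) ^ (finrank K V / 2) := by
  obtain ⟨c, h2, h3⟩ := exists_tr_of_unit hu h1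
  exact cU_le_bil hτ hu hc h2 h3 {-1} fun ε e k => Finset.mem_singleton.2 (e.resolve_left fun e => k (by
    rwa [e, one_smul]))

/-- no eigenvalue `1`, `-1` -/
theorem cU_le_bil_one (hτ : ∀ c, h.τ c = c) (hu : u * star u = 1) (hc : CycV (h.ap u)) (h1 : IsUnit (u - 1))
    (h1' : IsUnit (u + 1)) : cU u ≤ (Fintype.card K + 1) ^ (finrank K V / 2) := by
  obtain ⟨c, h2, h3⟩ := exists_tr_of_unit hu h1
  rw [← one_mul (_ ^ _)]
  refine cU_le_bil hτ hu hc h2 h3 ∅ fun ε e k => (k ?_).elim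
  rcases e with rfl | rfl
  · rwa [one_smul]
  · rw [neg_smul, one_smul]
    exact sub_neg_eq_add u 1 ▸ h1'

/-- an irreducible isometry which is not an involution -/
theorem cU_le_irr_bil (hτ : ∀ c, h.τ c = c) (hu : u * star u = 1) (hc : IrrV (h.ap u)) (h2 : u * u ≠ 1) :
    cU u ≤ Fintype.card K ^ (finrank K V / 2) + 1 := by
  have : Module.Finite K V := Module.Finite.of_finite
  have h0 := cycV_of_irr hc
  have h1 : star u ≠ u := fun e => h2 (by rwa [e] at hu)
  have h3 : IsUnit (u - 1) := hc.isUnit (x := h.ap (u - 1))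
    (show (u - 1) * u = u * (u - 1) by rw [sub_mul, mul_sub, one_mul, mul_one])
    fun e => h2 (by rw [sub_eq_zero.1 (show u - 1 = 0 from e), mul_one])
  obtain ⟨c, h4, h5⟩ := exists_tr_of_unit hu h3
  have h6 : (u - star u) * u = u * (u - star u) := by rw [sub_mul, mul_sub, hu, mul_eq_one_comm.1 hu]
  exact (cU_le_field hu h0.isCyc (fun x hx => hc.isUnit hx) rfl h1).trans (Nat.succ_le_succ (cS_le_of_sq hτ
    ((cS_sq_le_unit hu h0.isCyc h4 h5 h6 (by rw [star_sub, star_star, neg_sub])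
      (hc.isUnit h6 (sub_ne_zero.2 h1.symm))).trans h0.cA_le)))

/-! ### blocks -/

theorem b_of_unit {x : h.EB} (hx : x * star x = 1) (v w : V) : h.b (h.ap x v) (h.ap x w) = h.b v w := by
  rw [← h.b_star, ← h.ap_mul, mul_eq_one_comm.1 hx, h.ap_one]

theorem cU_le_IsoV (u : h.EB) : cU u ≤ Nat.card (IsoV h) := by
  have : Finite (V ≃ₗ[K] V) := Finite.of_injective _ DFunLike.coe_injective
  exact Nat.card_le_card_of_injective
    (fun x => ⟨unE h ⟨x.1, star x.1, x.2.1, mul_eq_one_comm.1 x.2.1⟩, b_of_unit x.2.1⟩)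
    fun x y e => Subtype.ext (congrArg Units.val ((unE h).injective (Subtype.mk.inj e)))

/-- the restriction to an invariant non-degenerate subspace -/
def rs {W : Submodule K V} (hW : ∀ v ∈ W, (∀ w ∈ W, h.b w v = 0) → v = 0) (x : h.EB) (hx : ∀ v ∈ W, h.ap x v ∈ W) :
    (res h W hW).EB := (res h W hW).eb ((h.ap x).restrict hx)

theorem rs_apply {W : Submodule K V} (hW : ∀ v ∈ W, (∀ w ∈ W, h.b w v = 0) → v = 0) (x : h.EB)
    (hx : ∀ v ∈ W, h.ap x v ∈ W) (v : W) : ((res h W hW).ap (rs hW x hx) v : V) = h.ap x v := rfl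

theorem rs_unit {W : Submodule K V} (hW : ∀ v ∈ W, (∀ w ∈ W, h.b w v = 0) → v = 0) {x : h.EB}
    (hx : ∀ v ∈ W, h.ap x v ∈ W) (hu : x * star x = 1) : rs hW x hx * star (rs hW x hx) = 1 :=
  SB.Idem.mul_star_of_b _ fun v w => b_of_unit hu v w

theorem eq_of_sup {W W' : Submodule K V} (hs : W ⊔ W' = ⊤) {x y : h.EB} (h1 : ∀ v ∈ W, h.ap x v = h.ap y v)
    (h2 : ∀ v ∈ W', h.ap x v = h.ap y v) : x = y := h.ap_ext fun v => by
  obtain ⟨a, ha, b, hb, rfl⟩ := Submodule.mem_sup.1 (hs.ge (Submodule.mem_top (x := v)))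
  rw [map_add, map_add, h1 a ha, h2 b hb]

/-- **two blocks which are invariant under the centraliser** (`ker_inv`) -/
theorem cU_le_mul {W W' : Submodule K V} (hW : ∀ v ∈ W, (∀ w ∈ W, h.b w v = 0) → v = 0)
    (hW' : ∀ v ∈ W', (∀ w ∈ W', h.b w v = 0) → v = 0) (hs : W ⊔ W' = ⊤)
    (h1 : ∀ x : h.EB, x * u = u * x → ∀ v ∈ W, h.ap x v ∈ W) (h2 : ∀ x : h.EB, x * u = u * x → ∀ v ∈ W', h.ap x v ∈ W') :
    cU u ≤ cU (rs hW u (h1 u rfl)) * cU (rs hW' u (h2 u rfl)) := by
  rw [cU, cU, cU, ← Nat.card_prod]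
  exact Nat.card_le_card_of_injective (fun x => (⟨rs hW x.1 (h1 _ x.2.2), rs_unit hW _ x.2.1,
      (res h W hW).ap_ext fun v => Subtype.ext (congrArg (fun y => h.ap y v) x.2.2)⟩,
    ⟨rs hW' x.1 (h2 _ x.2.2), rs_unit hW' _ x.2.1,
      (res h W' hW').ap_ext fun v => Subtype.ext (congrArg (fun y => h.ap y v) x.2.2)⟩))
    fun x y e => Subtype.ext (eq_of_sup hs
      (fun v hv => congrArg (fun z => ((res h W hW).ap z ⟨v, hv⟩ : V)) (Subtype.mk.inj (Prod.mk.inj e).1))
      fun v hv => congrArg (fun z => ((res h W' hW').ap z ⟨v, hv⟩ : V)) (Subtype.mk.inj (Prod.mk.inj e).2))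

/-- the same with the orthogonal group of the first block -/
theorem cO_le_O_mul {F : FR h.EB} {Q : QuadraticForm K V} (o : IsO h F Q) {u : h.EBˣ} {W W' : Submodule K V}
    (hW' : ∀ v ∈ W', (∀ w ∈ W', h.b w v = 0) → v = 0) (hs : W ⊔ W' = ⊤)
    (h1 : ∀ x : h.EB, x * u = u * x → ∀ v ∈ W, h.ap x v ∈ W) (h2 : ∀ x : h.EB, x * u = u * x → ∀ v ∈ W', h.ap x v ∈ W') :
    cO F u ≤ Nat.card (O (Q.comp W.subtype)) * cU (rs hW' u (h2 u rfl)) := by
  have : Module.Finite K W := Module.Finite.of_finite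
  have : Finite (W ≃ₗ[K] W) := Finite.of_injective _ DFunLike.coe_injective
  rw [cO, cU, ← Nat.card_prod]
  exact Nat.card_le_card_of_injective (fun x => (⟨LinearEquiv.ofInjectiveEndo
      ((h.ap x.1).restrict (h1 _ (congrArg Units.val x.2.2))) fun a b e =>
        Subtype.ext ((unE h x.1).injective (congrArg Subtype.val e)), fun v => (SB.Tor.mem_Iso_O o _).1 x.2.1 v⟩,
    ⟨rs hW' x.1 (h2 _ (congrArg Units.val x.2.2)), rs_unit hW' _ x.2.1.1,
      (res h W' hW').ap_ext fun v => Subtype.ext (congrArg (fun y : h.EBˣ => h.ap y v) x.2.2)⟩))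
    fun x y e => Subtype.ext (Units.ext (eq_of_sup hs
      (fun v hv => congrArg (fun z => (z.1.1 ⟨v, hv⟩ : V)) e)
      fun v hv => congrArg (fun z => ((res h W' hW').ap z ⟨v, hv⟩ : V)) (Subtype.mk.inj (Prod.mk.inj e).2)))

end Cfsg.Agent.N2C.Cyc
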