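import Cfsg.Agent.N2.Cl.Cyc.Cov
import Cfsg.Agent.N2.Cl.Cyc.Num
import Cfsg.Agent.TH.Cl.Big.Mem
import Cfsg.Agent.SB.Idem.Form
import Cfsg.Agent.H326.CGU.Herm
import Cfsg.Agent.H727.GW.Isom
import Cfsg.Agent.H989.Fx.Ty
import Cfsg.Agent.H955.QMinus
import Cfsg.Agent.H450.Ux.YcFour
import Cfsg.Agent.ClassicalGeometry.OrthSemiForms
import Cfsg.Agent.ClassicalGeometry.GUBasic
import Cfsg.Agent.S0243
import Cfsg.Agent.S0245
import Cfsg.Agent.S0246
import Cfsg.Agent.S0280
import Cfsg.Agent.S0287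
import Cfsg.Agent.S0288
import Cfsg.Agent.S0292
import Cfsg.Agent.S0293
import Cfsg.Agent.S0294

/-!
# N2 (S3519), classical socles: the orders of the groups of the four kinds (helper58)

* arbitrary spaces (blocks): `card_GLV`, `card_IsoV_U`, `card_IsoV_Sp`, `card_O_odd`, `card_O_plus`, `card_O_minus`,
  `card_O_le`;
* `card_Iso_L U Sp O`, `card_I0_L U Sp O`, `card_S_L U Sp O`, `card_ZI_*`, `ZI_pow_*`.
-/

set_option autoImplicit false
set_option linter.unusedSectionVars false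

namespace Cfsg.Agent.N2C.Cyc

open Subgroup Module Cfsg.Agent.DS.Cl Cfsg.Agent.DS.Cl.Fwd Cfsg.Agent.SB.Cl
open Cfsg.Agent.TH.Cl (KL KU KSp KO)
open Cfsg.Agent.SB.Fld (prL)
open Cfsg.Agent.LieClassical.OrthCore (O E Nondeg E_le_O)
open Cfsg.Agent.LieClassical.QuadForms
open scoped Matrix

variable {K V : Type} [Field K] [Fintype K] [AddCommGroup V] [Module K V] [Finite V]

theorem two_le_q (K : Type) [Field K] [Fintype K] : 2 ≤ Fintype.card K := Fintype.one_lt_card

theorem card_GL (n : ℕ) (K : Type) [Field K] [Fintype K] : Nat.card (GL (Fin n) K) = oGL n (Fintype.card K) := by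
  rw [Matrix.card_GL_field, prod_eq_oGL]

theorem card_GLV (K V : Type) [Field K] [Fintype K] [AddCommGroup V] [Module K V] [Finite V] :
    Nat.card (V ≃ₗ[K] V) = oGL (finrank K V) (Fintype.card K) := by
  have : Module.Finite K V := Module.Finite.of_finite
  rw [← card_GL, Nat.card_congr (LieClassical.OrthCount.glEquiv (Fin (finrank K V)) K).toEquiv]
  exact Nat.card_congr (H326.CGU.autC (Module.finBasis K V).equivFun)

/-- the isometries of a form -/
def IsoV (h : HF K V) : Subgroup (V ≃ₗ[K] V) where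
  carrier := {g | ∀ x y, h.b (g x) (g y) = h.b x y}
  one_mem' := fun _ _ => rfl
  mul_mem' := fun {a b} ha hb x y => (ha (b x) (b y)).trans (hb x y)
  inv_mem' := fun {a} ha x y => by
    rw [← ha (a⁻¹ x) (a⁻¹ y)]
    exact congrArg₂ _ (a.apply_symm_apply x) (a.apply_symm_apply y)

/-- the restriction of a form to a non-degenerate subspace -/
def res (h : HF K V) (W : Submodule K V) (hW : ∀ v ∈ W, (∀ u ∈ W, h.b u v = 0) → v = 0) : HF K W where
  τ := h.τ
  ε := h.ε
  b x y := h.b x y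
  add_left _ _ _ := h.add_left _ _ _
  smul_left _ _ _ := h.smul_left _ _ _
  swap _ _ := h.swap _ _
  τ_τ := h.τ_τ
  nondeg v hv := Subtype.ext (hW v v.2 fun u hu => hv ⟨u, hu⟩)

variable {h : HF K V} {F : FR h.EB}

theorem tau_pow (hU : IsU h) {q : ℕ} (hq : Fintype.card K = q ^ 2) (a : K) : h.τ a = a ^ q := by
  obtain ⟨s, h1, h2⟩ := H326.CGU.exists_frobenius (TH.Cl.IsU.tau_ne hU) h.τ_τ
  rw [h2, Nat.pow_left_injective two_ne_zero (h1.symm.trans hq)]

theorem card_IsoV_U (hU : IsU h) {q : ℕ} (hq : Fintype.card K = q ^ 2) : Nat.card (IsoV h) = oGU (finrank K V) q := by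
  have : Module.Finite K V := Module.Finite.of_finite
  let B : V →ₛₗ[h.τ] V →ₗ[K] K := LinearMap.mk₂'ₛₗ h.τ (RingHom.id K) (fun v w => h.b w v)
    (fun _ _ _ => h.add_right _ _ _) (fun _ _ _ => h.smul_right _ _ _) (fun _ _ _ => h.add_left _ _ _)
    fun _ _ _ => h.smul_left _ _ _
  refine Eq.trans ?_ (H326.CGU.card_isom (TH.Cl.IsU.tau_ne hU) h.τ_τ B ⟨fun v w => by
      change h.τ (h.b w v) = h.b v w
      rw [h.swap w v, hU.1, one_mul]⟩ (fun v hv => h.nondeg v hv) hq (tau_pow hU hq))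
  exact Nat.card_congr (Equiv.subtypeEquivRight fun g => ⟨fun k u v => k v u, fun k u v => k v u⟩)

theorem card_IsoV_Sp (h1 : ∀ c, h.τ c = c) (h2 : ∀ v, h.b v v = 0) {k : ℕ} (hk : finrank K V = 2 * k) :
    Nat.card (IsoV h) = oSp k (Fintype.card K) := by
  have : Module.Finite K V := Module.Finite.of_finite
  let B : LinearMap.BilinForm K V := LinearMap.mk₂ K h.b h.add_left h.smul_left h.add_right fun c u v => by
    rw [h.smul_right, h1, smul_eq_mul]
  exact H727.GW.card_isomGroup B h2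
    (fun v hv => h.nondeg v fun w => by rw [h.swap v w, show h.b v w = 0 from hv w, map_zero, mul_zero]) hk

section O

variable {Q : QuadraticForm K V}

theorem card_O_plus (hQ : Nondeg Q) {m : ℕ} (hm : 1 ≤ m) (hd : finrank K V = 2 * m) (hP : H955.IsPlus Q) :
    Nat.card (O Q) = 2 * oP m (Fintype.card K) := by
  have : Module.Finite K V := Module.Finite.of_finite
  obtain ⟨e, he⟩ := H955.exists_plus_equiv m Q hQ hd hP
  rw [← H989.Fx.card_O_congr e he, ClassicalGeometry.OrthSemiForms.card_O, coe_plusForm, S0287.result rfl m hm, oP, PP]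
  ring

theorem card_O_minus (hQ : Nondeg Q) {m : ℕ} (hm : 1 ≤ m) (hd : finrank K V = 2 * m) (hP : ¬ H955.IsPlus Q) :
    Nat.card (O Q) = 2 * oM m (Fintype.card K) := by
  have : Module.Finite K V := Module.Finite.of_finite
  obtain ⟨a, b, hab⟩ := H955.exists_aniso_coeff K
  obtain ⟨e, he⟩ := H955.exists_minus_equiv hab (m - 1) Q hQ (by omega) hP
  rw [← H989.Fx.card_O_congr e he, ClassicalGeometry.OrthSemiForms.card_O, coe_minusForm,
    S0288.result rfl m hm a b hab, oM, PP]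
  ring

theorem two_ne_of_odd (hQ : Nondeg Q) (hd : Odd (finrank K V)) : (2 : K) ≠ 0 := fun h2 => by
  have : Module.Finite K V := Module.Finite.of_finite
  exact Nat.not_even_iff_odd.2 hd (H727.GW.even_finrank _ V (QuadraticMap.polarBilin Q)
    (fun x => by rw [QuadraticMap.polarBilin_apply_apply, QuadraticMap.polar_self, two_smul, ← two_mul, h2, zero_mul])
    hQ rfl)

theorem card_O_odd (hQ : Nondeg Q) {m : ℕ} (hd : finrank K V = 2 * m + 1) :
    Nat.card (O Q) = 2 * oSp m (Fintype.card K) := by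
  have : Module.Finite K V := Module.Finite.of_finite
  have h2 := two_ne_of_odd hQ ⟨m, hd⟩
  obtain ⟨ε, hε⟩ := H989.Fx.exists_ty h2 _ V Q hQ hd
  have h1 := hε.card_odd h2
  have h3 : ∀ j, H989.Fx.PP (Nat.card K) j = (PP j (Fintype.card K) : ℕ) := fun j => by
    rw [H989.Fx.PP, PP, Nat.cast_prod, Nat.card_eq_fintype_card]
    refine Finset.prod_congr rfl fun i _ => ?_
    rw [Nat.cast_sub (Nat.one_le_pow _ _ Fintype.card_pos)]
    simp
  rw [h3, Nat.card_eq_fintype_card (α := K)] at h1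
  rw [oSp, ← mul_assoc]
  exact_mod_cast h1

theorem card_O_even_le (hQ : Nondeg Q) {m : ℕ} (hm : 1 ≤ m) (hd : finrank K V = 2 * m) :
    2 * oP m (Fintype.card K) ≤ Nat.card (O Q) ∧ Nat.card (O Q) ≤ 2 * oM m (Fintype.card K) := by
  have h1 := Nat.mul_le_mul_left 2 (oP_le_oM m (Fintype.card K))
  by_cases hP : H955.IsPlus Q
  · rw [card_O_plus hQ hm hd hP]
    exact ⟨le_rfl, h1⟩
  · rw [card_O_minus hQ hm hd hP]
    exact ⟨h1, le_rfl⟩

theorem card_O_two (hQ : Nondeg Q) (hd : finrank K V = 2) : Nat.card (O Q) ≤ 2 * (Fintype.card K + 1) := by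
  simpa [oM, PP] using (card_O_even_le hQ le_rfl hd).2

/-- `|O(Q)| ≤ 2 q^(n (n - 1) / 2)` unless `n = 2` -/
theorem card_O_le (hQ : Nondeg Q) (hd : finrank K V ≠ 2) :
    Nat.card (O Q) ≤ 2 * Fintype.card K ^ (finrank K V * (finrank K V - 1) / 2) := by
  have : Module.Finite K V := Module.Finite.of_finite
  obtain ⟨m, hm | hm⟩ := Nat.even_or_odd' (finrank K V)
  · rcases Nat.eq_zero_or_pos m with rfl | h0
    · rw [H989.Fx.card_O_zero hm, hm]
      simp
    obtain ⟨m, rfl⟩ := Nat.exists_eq_add_of_le' h0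
    rw [hm, show 2 * (m + 1) * (2 * (m + 1) - 1) / 2 = 2 * m ^ 2 + 3 * m + 1 by
      rw [show 2 * (m + 1) - 1 = 2 * m + 1 by omega, mul_assoc, Nat.mul_div_cancel_left _ two_pos]; ring]
    exact (card_O_even_le hQ h0 hm).2.trans (Nat.mul_le_mul_left _ (oM_le Fintype.card_pos (by omega)))
  · rw [card_O_odd hQ hm, hm, show (2 * m + 1) * (2 * m + 1 - 1) / 2 = 2 * m ^ 2 + m by
      rw [Nat.add_sub_cancel, mul_left_comm, Nat.mul_div_cancel_left _ two_pos]; ring]
    exact Nat.mul_le_mul_left _ (oSp_le _ _)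

end O

/-! ### the rings of forms -/

variable (h) in
/-- units and linear automorphisms -/
def unE : h.EBˣ ≃* (V ≃ₗ[K] V) := LinearMap.GeneralLinearGroup.generalLinearEquiv K V

theorem unE_apply (u : h.EBˣ) (v : V) : unE h u v = h.ap u v := rfl

theorem map_Iso_max (hL : F.L = Lmax _) : F.Iso.map (unE h).toMonoidHom = IsoV h := by
  ext g
  obtain ⟨u, rfl⟩ := (unE h).surjective g
  exact (mem_map_iff_mem (unE h).injective).trans
    ⟨fun k => (h.unit_iff u).1 k.1, fun k => mem_Iso_max hL ((h.unit_iff u).2 k)⟩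

theorem map_Iso_O {Q : QuadraticForm K V} (o : IsO h F Q) : F.Iso.map (unE h).toMonoidHom = O Q := by
  ext g
  obtain ⟨u, rfl⟩ := (unE h).surjective g
  exact (mem_map_iff_mem (unE h).injective).trans (SB.Tor.mem_Iso_O o u)

theorem map_I0_O {Q : QuadraticForm K V} (k : KO h F Q) : (I0 F).map (unE h).toMonoidHom = E Q := by
  rw [map_commutator, map_Iso_O k.o, k.good.commutator_eq_E]

theorem mem_I0_O {Q : QuadraticForm K V} (k : KO h F Q) (u : h.EBˣ) : u ∈ I0 F ↔ unE h u ∈ E Q := by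
  rw [← map_I0_O k]
  exact (mem_map_iff_mem (f := (unE h).toMonoidHom) (unE h).injective).symm

theorem card_map_unE (X : Subgroup h.EBˣ) : Nat.card (X.map (unE h).toMonoidHom) = Nat.card X :=
  card_map_of_injective (unE h).injective

theorem nondeg_of_O {Q : QuadraticForm K V} (o : IsO h F Q) : Nondeg Q :=
  fun x hx => h.nondeg x fun y => by rw [o.2.1, QuadraticMap.polar_comm, hx]

theorem card_Iso_U {q : ℕ} (k : KU h F q) : Nat.card F.Iso = oGU (finrank K V) q := by
  rw [← card_map_unE, map_Iso_max k.L, card_IsoV_U k.u k.card]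

theorem card_Iso_Sp {j : ℕ} (k : KSp h F j) : Nat.card F.Iso = oSp j (Fintype.card K) := by
  rw [← card_map_unE, map_Iso_max k.sp.2.2, card_IsoV_Sp k.sp.1 k.sp.2.1 k.dim]

theorem card_Iso_O {Q : QuadraticForm K V} (o : IsO h F Q) : Nat.card F.Iso = Nat.card (O Q) := by
  rw [← card_map_unE, map_Iso_O o]

theorem I0_Sp {j : ℕ} (k : KSp h F j) : I0 F = F.Iso := le_antisymm F.comm_le_Iso fun _ hu => k.mem_comm hu

theorem card_I0_Sp {j : ℕ} (k : KSp h F j) : Nat.card (I0 F) = oSp j (Fintype.card K) := by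
  rw [I0_Sp k, card_Iso_Sp k]

theorem card_I0_O {Q : QuadraticForm K V} (k : KO h F Q) : Nat.card (I0 F) = Nat.card (E Q) := by
  rw [← card_map_unE, map_I0_O k]

theorem card_S_U {q : ℕ} (k : KU h F q) :
    Nat.gcd (finrank K V) (q + 1) * ((q + 1) * Nat.card F.S) = oGU (finrank K V) q := by
  obtain ⟨e⟩ := k.iso
  rw [Nat.card_congr e.toEquiv]
  exact S0280.result k.card _ (by have := k.dim; omega)

theorem card_S_Sp {j : ℕ} (k : KSp h F j) : Nat.gcd 2 (Fintype.card K - 1) * Nat.card F.S = oSp j (Fintype.card K) := by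
  obtain ⟨e⟩ := k.iso
  rw [Nat.card_congr e.toEquiv, ← S0246.result rfl j (by have := k.two; omega), oSp, PP, ← S0245.result rfl j]
  exact card_mul_index (center ↥(Matrix.symplecticGroup (Fin j) K))

/-- the three types -/
theorem card_S_O {Q : QuadraticForm K V} (k : KO h F Q) :
    (∃ m, finrank K V = 2 * m + 1 ∧ Odd (Fintype.card K) ∧ 2 * Nat.card F.S = oSp m (Fintype.card K)) ∨
    (∃ m, finrank K V = 2 * m ∧ H955.IsPlus Q ∧
      Nat.gcd 4 (Fintype.card K ^ m - 1) * Nat.card F.S = oP m (Fintype.card K)) ∨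
    ∃ m, finrank K V = 2 * m ∧ ¬ H955.IsPlus Q ∧
      Nat.gcd 4 (Fintype.card K ^ m + 1) * Nat.card F.S = oM m (Fintype.card K) := by
  have h7 := k.dim
  have hQ := nondeg_of_O k.o
  rcases k.iso with ⟨m, h1, h2, ⟨e⟩, -⟩ | ⟨m, h1, ⟨e⟩, f, hf⟩ | ⟨m, a, b, h1, h2, ⟨e⟩, f, hf⟩
  · exact Or.inl ⟨m, h1, h2, by rw [Nat.card_congr e.toEquiv]; exact S0292.result rfl h2 m (by omega)⟩
  · refine Or.inr (Or.inl ⟨m, h1, ?_, by rw [Nat.card_congr e.toEquiv]; exact S0293.result rfl m (by omega)⟩)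
    by_contra hP
    have h3 := card_O_minus hQ (by omega) h1 hP
    rw [← H989.Fx.card_O_congr (Q := plusForm m K) f (fun v => by rw [coe_plusForm, hf]),
      ClassicalGeometry.OrthSemiForms.card_O, coe_plusForm, S0287.result rfl m (by omega), oM, PP, ← mul_assoc,
      ← mul_assoc] at h3
    have h4 : 0 < ∏ i ∈ Finset.range (m - 1), (Fintype.card K ^ (2 * (i + 1)) - 1) :=
      Finset.prod_pos fun i _ => Nat.sub_pos_of_lt (Nat.one_lt_pow (by omega) Fintype.one_lt_card)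
    have h5 := Nat.eq_of_mul_eq_mul_left (by positivity) (Nat.eq_of_mul_eq_mul_right h4 h3)
    omega
  · refine Or.inr (Or.inr ⟨m, h1, fun hP => ?_, by
      rw [Nat.card_congr e.toEquiv]; exact S0294.result rfl m (by omega) a b h2⟩)
    have h3 := card_O_plus hQ (by omega) h1 hP
    rw [← H989.Fx.card_O_congr (Q := minusForm (m - 1) K a b) f (fun v => by rw [coe_minusForm, hf]),
      ClassicalGeometry.OrthSemiForms.card_O, coe_minusForm, S0288.result rfl m (by omega) a b h2, oP, PP, ← mul_assoc,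
      ← mul_assoc] at h3
    have h4 : 0 < ∏ i ∈ Finset.range (m - 1), (Fintype.card K ^ (2 * (i + 1)) - 1) :=
      Finset.prod_pos fun i _ => Nat.sub_pos_of_lt (Nat.one_lt_pow (by omega) Fintype.one_lt_card)
    have h5 := Nat.eq_of_mul_eq_mul_left (by positivity) (Nat.eq_of_mul_eq_mul_right h4 h3)
    omega

theorem card_O_le_I0 {Q : QuadraticForm K V} (k : KO h F Q) : Nat.card (O Q) ≤ 4 * Nat.card (I0 F) := by
  have : Module.Finite K V := Module.Finite.of_finite
  rw [card_I0_O k]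
  exact H450.Ux.card_O_le (nondeg_of_O k.o) (le_trans (by norm_num) k.dim)

theorem card_O_eq_S_two {Q : QuadraticForm K V} (k : KO h F Q) (h2 : Even (Fintype.card K)) :
    Nat.card (O Q) = 2 * Nat.card F.S := by
  have h7 := k.dim
  have hQ := nondeg_of_O k.o
  have h4 : ∀ x, Odd x → Nat.gcd 4 x = 1 := fun x hx =>
    Nat.Coprime.pow_left 2 (Nat.coprime_two_left.2 hx)
  rcases card_S_O k with ⟨m, -, h1, -⟩ | ⟨m, h1, hP, h3⟩ | ⟨m, h1, hP, h3⟩
  · exact absurd h2 (Nat.not_even_iff_odd.2 h1)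
  · rw [h4 _ (Nat.Even.sub_odd (Nat.one_le_pow _ _ Fintype.card_pos) (h2.pow_of_ne_zero (by omega)) odd_one),
      one_mul] at h3
    rw [card_O_plus hQ (by omega) h1 hP, h3]
  · rw [h4 _ ((h2.pow_of_ne_zero (by omega)).add_one), one_mul] at h3
    rw [card_O_minus hQ (by omega) h1 hP, h3]

/-- `|O(Q)| ≥ (5 / 4) q^(n (n - 1) / 2)` -/
theorem card_O_ge {Q : QuadraticForm K V} (hQ : Nondeg Q) (h7 : 7 ≤ finrank K V) :
    5 * Fintype.card K ^ (finrank K V * (finrank K V - 1) / 2) ≤ 4 * Nat.card (O Q) := by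
  obtain ⟨m, hm | hm⟩ := Nat.even_or_odd' (finrank K V)
  · obtain ⟨m, rfl⟩ := Nat.exists_eq_add_of_le' (show 1 ≤ m by omega)
    rw [hm, show 2 * (m + 1) * (2 * (m + 1) - 1) / 2 = 2 * m ^ 2 + 3 * m + 1 by
      rw [show 2 * (m + 1) - 1 = 2 * m + 1 by omega, mul_assoc, Nat.mul_div_cancel_left _ two_pos]; ring]
    have h1 := (card_O_even_le hQ (by omega) hm).1
    have h2 := oP_ge (two_le_q K) (show 3 ≤ m by omega)
    omega
  · rw [card_O_odd hQ hm, hm, show (2 * m + 1) * (2 * m + 1 - 1) / 2 = 2 * m ^ 2 + m by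
      rw [Nat.add_sub_cancel, mul_left_comm, Nat.mul_div_cancel_left _ two_pos]; ring]
    have h2 := oSp_ge' (two_le_q K) m
    omega

/-- the determinant -/
noncomputable def detE (h : HF K V) : h.EBˣ →* Kˣ := Units.map (LinearMap.det : End K V →* K)

theorem detE_val (u : h.EBˣ) : (detE h u : K) = LinearMap.det (h.ap u) := rfl

theorem det_of_I0 {u : h.EBˣ} (hu : u ∈ I0 F) : LinearMap.det (h.ap u) = 1 := by
  have h1 : I0 F ≤ (detE h).ker := commutator_le.2 fun a _ b _ => by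
    rw [MonoidHom.mem_ker, map_commutatorElement, commutatorElement_eq_one_iff_mul_comm, mul_comm]
  exact congrArg Units.val (h1 hu)

theorem card_pow_eq_one_le (K : Type) [Field K] {m : ℕ} (hm : 0 < m) : Nat.card {c : Kˣ // c ^ m = 1} ≤ m := by
  have : NeZero m := ⟨hm.ne'⟩
  exact le_trans (le_of_eq (Nat.card_congr (Equiv.refl _))) (card_rootsOfUnity K m)

/-- the kernel of a character -/
theorem card_le_of_char {G : Type} [Group G] [Finite G] (f : G →* Kˣ) {X Y : Subgroup G} {m : ℕ} (hm : 0 < m)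
    (h1 : ∀ u ∈ X, f u ^ m = 1) (h2 : ∀ u ∈ X, f u = 1 → u ∈ Y) : Nat.card X ≤ m * Nat.card Y := by
  rw [← (f.comp X.subtype).ker.index_mul_card, index_ker]
  refine Nat.mul_le_mul (le_trans ?_ (card_pow_eq_one_le K hm)) ?_
  · exact Nat.card_le_card_of_injective (fun c => ⟨c.1, by obtain ⟨u, hu⟩ := c.2; exact hu ▸ h1 u u.2⟩)
      fun _ _ e => Subtype.ext (Subtype.mk.inj e)
  · exact Nat.card_le_card_of_injective (fun u => ⟨u.1, h2 _ u.1.2 u.2⟩)
      fun _ _ e => Subtype.ext (Subtype.ext (Subtype.mk.inj e))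

open SB.Idem in
theorem det_unit {u : h.EBˣ} (hu : (u : h.EB) * star (u : h.EB) = 1) :
    LinearMap.det (h.ap u) * h.τ (LinearMap.det (h.ap u)) = 1 := by
  classical
  have : Module.Finite K V := Module.Finite.of_finite
  let c := Module.finBasis K V
  have h1 : (piB h c u)ᵀ * gram h c * (piB h c u).map h.τ = gram h c :=
    Matrix.ext fun i j => (b_ap_ap h c u i j).symm.trans ((h.unit_iff u).1 hu _ _)
  have h2 : (gram h c).det ≠ 0 := fun h0 => by
    obtain ⟨x, hx, e⟩ := Matrix.exists_mulVec_eq_zero_iff.2 h0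
    have h3 : ∑ i, h.τ (x i) • c i = 0 := h.nondeg _ fun w => by
      rw [← c.sum_repr w, b_sum_left]
      refine Finset.sum_eq_zero fun i _ => mul_eq_zero_of_right _ ?_
      rw [b_sum_right, ← show _ = (0 : K) from congrFun e i]
      exact Finset.sum_congr rfl fun j _ => by rw [h.τ_τ, mul_comm]; rfl
    exact hx (funext fun i => (map_eq_zero h.τ).1 (Fintype.linearIndependent_iff.1 c.linearIndependent _ h3 i))
  have h4 := congrArg Matrix.det h1
  rw [Matrix.det_mul, Matrix.det_mul, Matrix.det_transpose, ← RingHom.mapMatrix_apply, ← RingHom.map_det, piB_apply,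
    LinearMap.det_toMatrix, mul_right_comm] at h4
  exact mul_right_cancel₀ h2 (h4.trans (one_mul _).symm)

theorem det_pow_U {q : ℕ} (k : KU h F q) {u : h.EBˣ} (hu : u ∈ F.Iso) : LinearMap.det (h.ap u) ^ (q + 1) = 1 := by
  rw [pow_succ', ← tau_pow k.u k.card, det_unit hu.1]

/-- `|GU_n(q)| ≤ (q + 1) |SU_n(q)|` -/
theorem card_I0_U {q : ℕ} (k : KU h F q) : oGU (finrank K V) q ≤ (q + 1) * Nat.card (I0 F) := by
  rw [← card_Iso_U k]
  exact card_le_of_char (detE h) q.succ_pos (fun u hu => Units.ext (det_pow_U k hu))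
    fun u hu e => k.mem_comm hu (congrArg Units.val e)

/-! ### central isometries -/

variable (h) in
/-- the scalars -/
def scU : Kˣ →* h.EBˣ := Units.map (algebraMap K (End K V) : K →* End K V)

theorem ap_scU (c : Kˣ) (v : V) : h.ap (scU h c) v = (c : K) • v := rfl

theorem scU_cen (c : Kˣ) : (scU h c : h.EB) ∈ Subring.center h.EB := h.smul_mem_center c

theorem scU_inj [Nontrivial V] : Function.Injective (scU h) := fun c d e => by
  obtain ⟨v, hv⟩ := exists_ne (0 : V)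
  exact Units.ext (smul_left_injective K hv (congrArg (fun u : h.EBˣ => h.ap u v) e))

theorem scU_unit {c : Kˣ} (hc : (c : K) * h.τ c = 1) : (scU h c : h.EB) * star (scU h c : h.EB) = 1 :=
  (h.unit_iff _).2 fun x y => by rw [ap_scU, ap_scU, h.smul_left, h.smul_right, ← mul_assoc, hc, one_mul]

theorem exists_sc_ZI [Nontrivial V] {z : h.EBˣ} (hz : z ∈ ZI F) : ∃ c : Kˣ, z = scU h c ∧ (c : K) * h.τ c = 1 := by
  obtain ⟨c, hc⟩ := SB.Tor.exists_sc h (z := z) (Subring.mem_center_iff.2 fun x => (ZI_comm hz x).symm)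
  obtain ⟨v, hv⟩ := exists_ne (0 : V)
  obtain ⟨w, hw⟩ := h.exists_ne hv
  have h1 := (h.unit_iff z).1 hz.1.1 w v
  rw [hc, hc, h.smul_left, h.smul_right, ← mul_assoc] at h1
  have h2 : c * h.τ c = 1 := mul_right_cancel₀ hw (h1.trans (one_mul _).symm)
  exact ⟨Units.mkOfMulEqOne _ _ h2, Units.ext (h.ap_ext hc), h2⟩

theorem nontrivial_of_dim (h0 : 0 < finrank K V) : Nontrivial V := Module.nontrivial_of_finrank_pos h0

theorem ZI_pow_U {q : ℕ} (k : KU h F q) {z : h.EBˣ} (hz : z ∈ ZI F) : z ^ (q + 1) = 1 := by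
  have := nontrivial_of_dim (K := K) (V := V) (by have := k.dim; omega)
  obtain ⟨c, rfl, hc⟩ := exists_sc_ZI hz
  rw [← map_pow, show c ^ (q + 1) = 1 from Units.ext (by
    rw [Units.val_pow_eq_pow_val, pow_succ', ← tau_pow k.u k.card, hc, Units.val_one]), map_one]

theorem card_ZI_U {q : ℕ} (k : KU h F q) : q + 1 ≤ Nat.card (ZI F) := by
  have := nontrivial_of_dim (K := K) (V := V) (by have := k.dim; omega)
  rw [← ClassicalGeometry.GUBasic.card_rootsOfUnity_eq k.card]
  exact Nat.card_le_card_of_injective (fun c => ⟨scU h c, mem_ZI (mem_Iso_max k.L (scU_unit (by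
    rw [tau_pow k.u k.card, ← pow_succ']; exact congrArg Units.val c.2))) (scU_cen _)⟩)
    fun _ _ e => Subtype.ext (scU_inj (Subtype.mk.inj e))

/-- bilinear forms -/
theorem ZI_cases [Nontrivial V] (hτ : ∀ c, h.τ c = c) {z : h.EBˣ} (hz : z ∈ ZI F) : z = 1 ∨ z = -1 := by
  obtain ⟨c, rfl, hc⟩ := exists_sc_ZI hz
  rw [hτ] at hc
  rcases mul_self_eq_one_iff.1 hc with h1 | h1
  · exact Or.inl (Units.ext (h.ap_ext fun v => by rw [ap_scU, h1, one_smul]; rfl))
  · exact Or.inr (Units.ext (h.ap_ext fun v => by rw [ap_scU, h1, neg_one_smul]; rfl))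

theorem ZI_pow_two [Nontrivial V] (hτ : ∀ c, h.τ c = c) {z : h.EBˣ} (hz : z ∈ ZI F) : z ^ 2 = 1 := by
  rcases ZI_cases hτ hz with rfl | rfl <;> simp

theorem neg_one_mem_ZI {A : Type} [Ring A] [StarRing A] (F : FR A) : -1 ∈ ZI F :=
  mem_ZI (FR.mem_Iso_of_cj (by simp) (by rw [cj_eq_one_iff.2 (by simp)]; exact one_mem _)) (by simp)

theorem card_ZI_two (F : FR h.EB) [Nontrivial V] (h2 : (2 : K) ≠ 0) : 2 ≤ Nat.card (ZI F) := by
  refine Finite.one_lt_card_iff_nontrivial.2 ⟨⟨-1, neg_one_mem_ZI F⟩, 1, fun e => h2 ?_⟩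
  obtain ⟨v, hv⟩ := exists_ne (0 : V)
  have h1 : -v = v := congrArg (fun u : ZI F => h.ap (u : h.EBˣ) v) e
  exact (smul_eq_zero_iff_left hv).1 (by rw [two_smul, add_eq_zero_iff_neg_eq, h1])

/-- the order of `u` is prime to the exponent of the group of central isometries -/
theorem cn_mul_le_cop' {A : Type} [Ring A] [StarRing A] [Finite A] {F : FR A} {u : Aˣ} (hu : u ∈ I0 F) {m e : ℕ}
    (hm : u ^ m = 1) (he : ∀ z ∈ ZI F, z ^ e = 1) (hc : m.Coprime e) : N2.cn (el hu) * Nat.card (ZI F) ≤ cO F u :=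
  cn_mul_le_one hu fun z hz v _ k => by
    have h1 : Commute z u := Units.ext (ZI_comm hz u)
    have h2 : (z * u) ^ m = 1 := by
      rw [show z * u = v * u * v⁻¹ by rw [k, mul_inv_cancel_right], conj_pow, hm, mul_one, mul_inv_cancel]
    rw [h1.mul_pow, hm, mul_one] at h2
    exact (pow_eq_one_iff_of_coprime hc).1 ⟨h2, he z hz⟩

/-! ### linear groups -/

section L

variable {n : ℕ} {F : FR (LR (Fin n) K)}

theorem Iso_L (F : FR (LR (Fin n) K)) : F.Iso = (LR.gl (ι := Fin n) (F := K)).range :=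
  Subgroup.ext fun u => ⟨fun k => (LR.mem_gl u).2 k.1,
    fun k => mem_Iso_max (F.L_eq SB.Fld.luL.c_cen LR.half) ((LR.mem_gl u).1 k)⟩

theorem gl_inj : Function.Injective (LR.gl (ι := Fin n) (F := K)) := fun _ _ e =>
  Units.ext (congrArg (fun u : (LR (Fin n) K)ˣ => (u : LR (Fin n) K).1) e)

theorem card_Iso_L (F : FR (LR (Fin n) K)) : Nat.card F.Iso = oGL n (Fintype.card K) := by
  rw [Iso_L, ← card_GL]
  exact (Nat.card_congr (MonoidHom.ofInjective gl_inj).toEquiv).symm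

theorem card_S_L (k : KL F) :
    Nat.gcd n (Fintype.card K - 1) * ((Fintype.card K - 1) * Nat.card F.S) = oGL n (Fintype.card K) := by
  obtain ⟨e⟩ := k.iso
  rw [Nat.card_congr e.toEquiv, ← prod_eq_oGL]
  exact S0243.result rfl n (by have := k.dim; omega)

/-- the determinant -/
noncomputable def detL (n : ℕ) (K : Type) [Field K] : (LR (Fin n) K)ˣ →* Kˣ :=
  Units.map ((LinearMap.det : End K (Fin n → K) →* K).comp (prL n K : LR (Fin n) K →* End K (Fin n → K)))

theorem detL_val (u : (LR (Fin n) K)ˣ) : (detL n K u : K) = LinearMap.det (prL n K u) := rfl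

/-- `|GL_n(q)| ≤ (q - 1) |SL_n(q)|` -/
theorem card_I0_L (k : KL F) : oGL n (Fintype.card K) ≤ (Fintype.card K - 1) * Nat.card (I0 F) := by
  rw [← card_Iso_L F]
  exact card_le_of_char (detL n K) (Nat.sub_pos_of_lt Fintype.one_lt_card)
    (fun u _ => Units.ext (FiniteField.pow_card_sub_one_eq_one _ (Units.ne_zero _)))
    fun u hu e => k.mem_comm hu (congrArg Units.val e)

theorem ZI_pow_L {z : (LR (Fin n) K)ˣ} (hz : z ∈ ZI F) : z ^ (Fintype.card K - 1) = 1 := by
  obtain ⟨g, rfl⟩ := (Iso_L F).le hz.1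
  obtain ⟨y, hy⟩ : (g : Matrix (Fin n) (Fin n) K) ∈ Set.range (Matrix.scalar (Fin n)) :=
    Matrix.mem_range_scalar_iff_commute_single'.2 fun i j =>
      (congrArg Prod.fst (ZI_comm hz (LR.mk (Matrix.single i j 1) 0))).symm
  rw [← map_pow, show g ^ (Fintype.card K - 1) = 1 from ?_, map_one]
  rcases Nat.eq_zero_or_pos n with rfl | hn
  · exact Subsingleton.elim _ _
  have : Nonempty (Fin n) := ⟨⟨0, hn⟩⟩
  refine Units.ext ?_
  rw [Units.val_pow_eq_pow_val, ← hy, ← map_pow, FiniteField.pow_card_sub_one_eq_one _ fun h0 => g.ne_zero (by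
    rw [← hy, h0, map_zero]), map_one, Units.val_one]

theorem card_ZI_L (F : FR (LR (Fin n) K)) (hn : 0 < n) : Fintype.card K - 1 ≤ Nat.card (ZI F) := by
  classical
  have : Nonempty (Fin n) := ⟨⟨0, hn⟩⟩
  let s : Kˣ →* GL (Fin n) K := Units.map (Matrix.scalar (α := K) (Fin n)).toMonoidHom
  rw [← Fintype.card_units, ← Nat.card_eq_fintype_card]
  refine Nat.card_le_card_of_injective (fun c => ⟨LR.gl (s c), mem_ZI ((Iso_L F).ge ⟨_, rfl⟩) ?_⟩)
    fun _ _ e => Units.ext (Matrix.scalar_inj.1 (congrArg Units.val (gl_inj (Subtype.mk.inj e))))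
  refine Subring.mem_center_iff.2 fun x => Prod.ext (Matrix.scalar_commute (c : K) (fun _ => .all _ _) x.1).symm ?_
  change x.2 * (Matrix.scalar (Fin n) ((c⁻¹ : Kˣ) : K))ᵀ = (Matrix.scalar (Fin n) ((c⁻¹ : Kˣ) : K))ᵀ * x.2
  rw [Matrix.scalar_apply, Matrix.diagonal_transpose]
  exact (Matrix.scalar_commute _ (fun _ => .all _ _) x.2).symm

end L

end Cfsg.Agent.N2C.Cyc
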