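import Cfsg.Agent.N2.Cl.Defs
import Cfsg.Agent.N2.Cy.Unit

/-!
# N2 (S3519), classical socles: criteria in the cover, centralisers of cyclic isometries (helper58)

* `I0 F = [Iso, Iso]`, `cI F u ≤ cO F u ≤ cU u` the orders of the centralisers of `u` in `I0 F`, in `F.Iso`, in the unitary
  elements; `cn_le`, `cn_mul_le`, `cI_mul_le`;
* the criteria `gd_of_cn`, `gd_of_cI`, `gd_of_lift`, `gd_of_cc`, `gd_of_cc_lift`;
* `IsCyc u` : the centraliser of `u` in the ring is commutative; `cU_le`, `cU_le_field`.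
-/

set_option autoImplicit false
set_option linter.unusedSectionVars false

namespace Cfsg.Agent.N2C.Cyc

open Subgroup Cfsg.Agent.DS.Cl Cfsg.Agent.DS.Cl.Fwd
open Cfsg.Agent.FP3 (Good fx)
open Cfsg.Agent.N2 (cn cc)

section groups

variable {G T : Type*} [Group G] [Group T] [Finite G]

theorem card_comap (π : G →* T) (hπ : Function.Surjective π) (B : Subgroup T) :
    Nat.card (B.comap π) = Nat.card B * Nat.card π.ker := by
  have : Finite T := Finite.of_surjective π hπ
  have h1 := (B.comap π).card_mul_index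
  have h2 := B.card_mul_index
  have h3 := π.ker.card_mul_index
  rw [index_comap_of_surjective _ hπ] at h1
  rw [index_ker, MonoidHom.range_eq_top.2 hπ, card_top] at h3
  refine Nat.eq_of_mul_eq_mul_right (Nat.pos_of_ne_zero B.index_ne_zero_of_finite) ?_
  rw [h1, ← h3, ← h2]
  ring

/-- central kernel; `k` bounds the number of `z` in the kernel such that `z g` is conjugate to `g` -/
theorem cn_mul_ker (π : G →* T) (hπ : Function.Surjective π) (g : G) {k : ℕ}
    (hk : Nat.card {z : G // z ∈ π.ker ∧ ∃ v, v * g = z * g * v} ≤ k) : cn (π g) * Nat.card π.ker ≤ k * cn g := by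
  classical
  rw [cn, ← card_comap π hπ]
  let f : (centralizer {π g}).comap π → {z : G // z ∈ π.ker ∧ ∃ v, v * g = z * g * v} := fun v =>
    ⟨v * g * (v : G)⁻¹ * g⁻¹, by
      have h1 : π g * π v = π v * π g := v.2 _ rfl
      rw [MonoidHom.mem_ker, map_mul, map_mul, map_mul, ← h1, map_inv, map_inv]
      group, v, by group⟩
  have := Fintype.ofFinite ((centralizer {π g}).comap π)
  have := Fintype.ofFinite {z : G // z ∈ π.ker ∧ ∃ v, v * g = z * g * v}
  rw [Nat.card_eq_fintype_card] at hk ⊢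
  have h2 := Finset.card_le_mul_card_image_of_maps_to (f := f) (s := Finset.univ) (t := Finset.univ)
    (fun _ _ => Finset.mem_univ _) (cn g) (fun z _ => by
      by_cases h0 : ∃ v, f v = z
      · obtain ⟨v₀, h0⟩ := h0
        rw [← Nat.card_eq_finsetCard]
        refine Nat.card_le_card_of_injective
          (fun v => (⟨(v₀ : G)⁻¹ * v.1, mem_centralizer_singleton_iff.2 ?_⟩ : centralizer {g})) fun v w e => ?_
        · have h3 : (v.1 : G) * g * (v.1 : G)⁻¹ * g⁻¹ = v₀ * g * (v₀ : G)⁻¹ * g⁻¹ :=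
            congrArg Subtype.val ((Finset.mem_filter.1 v.2).2.trans h0.symm)
          have h4 := mul_right_cancel h3
          calc (v₀ : G)⁻¹ * v.1 * g = (v₀ : G)⁻¹ * (v.1 * g * (v.1 : G)⁻¹) * v.1 := by group
            _ = g * ((v₀ : G)⁻¹ * v.1) := by rw [h4]; group
        · exact Subtype.ext (Subtype.ext (mul_left_cancel (congrArg Subtype.val e)))
      · rw [Finset.filter_eq_empty_iff.2 fun v _ e => h0 ⟨v, e⟩]
        exact Nat.zero_le _)
  rw [Finset.card_univ, Finset.card_univ] at h2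
  exact h2.trans ((Nat.mul_le_mul_left _ hk).trans (mul_comm _ _).le)

theorem cn_map_le (π : G →* T) (hπ : Function.Surjective π) (g : G) : cn (π g) ≤ cn g := by
  have h1 := cn_mul_ker π hπ g (k := Nat.card π.ker)
    (Nat.card_le_card_of_injective (fun z => ⟨z.1, z.2.1⟩) fun _ _ e => Subtype.ext (Subtype.mk.inj e))
  rw [mul_comm] at h1
  exact Nat.le_of_mul_le_mul_left h1 Nat.card_pos

omit [Finite G] in
theorem cn_le_of_le [Finite T] (K : Subgroup T) (a : K) : cn a ≤ cn (a : T) :=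
  Nat.card_le_card_of_injective (fun x => (⟨x.1, mem_centralizer_singleton_iff.2
    (congrArg Subtype.val (mem_centralizer_singleton_iff.1 x.2))⟩ : centralizer {(a : T)}))
    fun _ _ e => Subtype.ext (Subtype.ext (Subtype.mk.inj e))

/-- **criterion**: `|C(a)|³ |a^T ∩ B| ≤ |T|` -/
theorem good_of_cn_cc {B : Subgroup G} {a : G} (ha : a ∈ B) {c d : ℕ} (h : cn a ≤ c) (h' : cc B a ≤ d)
    (hc : c ^ 3 * d ≤ Nat.card G) : Good B := by
  refine N2.good_of_cc ha h le_rfl ?_
  have h1 := N2.cc_le B a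
  calc (c * cc B a) ^ 3 = c ^ 3 * cc B a * cc B a ^ 2 := by ring
    _ ≤ Nat.card G * Nat.card B ^ 2 :=
      Nat.mul_le_mul ((Nat.mul_le_mul_left _ h').trans hc) (Nat.pow_le_pow_left h1 2)

end groups

variable {A : Type} [Ring A] [StarRing A]

/-- the quasisimple group -/
abbrev I0 (F : FR A) : Subgroup Aˣ := ⁅F.Iso, F.Iso⁆

/-- the central isometries -/
abbrev ZI (F : FR A) : Subgroup Aˣ := F.Iso ⊓ (cj A).ker

/-- the preimage of `H ⊓ F.S` in the quasisimple group -/
abbrev Lf (F : FR A) (H : Subgroup (RingAut A)) : Subgroup Aˣ := H.comap (cj A) ⊓ I0 F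

/-- the order of the centraliser in `I0 F` -/
noncomputable def cI (F : FR A) (u : Aˣ) : ℕ := Nat.card {v : Aˣ // v ∈ I0 F ∧ v * u = u * v}

/-- the order of the centraliser in `F.Iso` -/
noncomputable def cO (F : FR A) (u : Aˣ) : ℕ := Nat.card {v : Aˣ // v ∈ F.Iso ∧ v * u = u * v}

/-- the number of unitary elements commuting with `u` -/
noncomputable def cU (u : A) : ℕ := Nat.card {x : A // x * star x = 1 ∧ x * u = u * x}

/-- the covering map -/
def pr (F : FR A) : I0 F →* F.S := (cj A).subgroupMap (I0 F)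

theorem pr_surj (F : FR A) : Function.Surjective (pr F) := (cj A).subgroupMap_surjective _

/-- the element of `F.S` -/
def el {F : FR A} {u : Aˣ} (hu : u ∈ I0 F) : F.S := ⟨cj A u, u, hu, rfl⟩

variable [Finite A] {F : FR A} {H : Subgroup (RingAut A)} {u : Aˣ}

theorem finAut : Finite (RingAut A) := Finite.of_injective (fun γ : RingAut A => (γ : A → A)) DFunLike.coe_injective

theorem cI_le_cO (F : FR A) (u : Aˣ) : cI F u ≤ cO F u :=
  Nat.card_le_card_of_injective (fun v => ⟨v.1, F.comm_le_Iso v.2.1, v.2.2⟩)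
    fun _ _ e => Subtype.ext (Subtype.mk.inj e)

theorem cO_le_cU (F : FR A) (u : Aˣ) : cO F u ≤ cU (u : A) :=
  Nat.card_le_card_of_injective (fun v => ⟨v.1, v.2.1.1, congrArg Units.val v.2.2⟩)
    fun _ _ e => Subtype.ext (Units.ext (congrArg Subtype.val e))

theorem cI_le_cU (F : FR A) (u : Aˣ) : cI F u ≤ cU (u : A) := (cI_le_cO F u).trans (cO_le_cU F u)

omit [StarRing A] [Finite A] in
theorem cn_eq {K : Subgroup Aˣ} (hu : u ∈ K) : cn (⟨u, hu⟩ : K) = Nat.card {v : Aˣ // v ∈ K ∧ v * u = u * v} :=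
  Nat.card_congr
    { toFun := fun x => ⟨x.1, x.1.2, congrArg Subtype.val (mem_centralizer_singleton_iff.1 x.2)⟩
      invFun := fun v => ⟨⟨v.1, v.2.1⟩, mem_centralizer_singleton_iff.2 (Subtype.ext v.2.2)⟩
      left_inv := fun _ => rfl
      right_inv := fun _ => rfl }

/-- the centraliser in the simple group is at most as large as the one in the cover -/
theorem cn_le (hu : u ∈ I0 F) : cn (el hu) ≤ cI F u := (cn_map_le (pr F) (pr_surj F) ⟨u, hu⟩).trans (cn_eq hu).le

/-- dividing by the scalars: `k` bounds the number of central isometries `z` such that `z u` is conjugate to `u` -/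
theorem cn_mul_le (hu : u ∈ I0 F) {k : ℕ}
    (hk : Nat.card {z : Aˣ // z ∈ ZI F ∧ ∃ v ∈ F.Iso, v * u = z * u * v} ≤ k) :
    cn (el hu) * Nat.card (ZI F) ≤ k * cO F u := by
  have := finAut (A := A)
  let π : F.Iso →* F.PI := (cj A).subgroupMap F.Iso
  have h1 := cn_mul_ker π ((cj A).subgroupMap_surjective _) ⟨u, F.comm_le_Iso hu⟩ (k := k)
    (le_trans (Nat.card_le_card_of_injective (fun z => ⟨z.1, ⟨z.1.2, congrArg Subtype.val z.2.1⟩,
      z.2.2.choose, z.2.2.choose.2, congrArg Subtype.val z.2.2.choose_spec⟩)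
      fun _ _ e => Subtype.ext (Subtype.ext (by simpa using e))) hk)
  have h2 : Nat.card π.ker = Nat.card (ZI F) := Nat.card_congr
    { toFun := fun z => ⟨z.1, z.1.2, congrArg Subtype.val z.2⟩
      invFun := fun z => ⟨⟨z.1, z.2.1⟩, Subtype.ext z.2.2⟩
      left_inv := fun _ => rfl
      right_inv := fun _ => rfl }
  rw [h2, cn_eq] at h1
  refine le_trans (Nat.mul_le_mul_right _ ?_) h1
  exact Nat.card_le_card_of_injective (fun x => (⟨⟨x.1, F.S_le_PI x.1.2⟩, mem_centralizer_singleton_iff.2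
    (Subtype.ext (congrArg (fun y : F.S => (y : RingAut A)) (mem_centralizer_singleton_iff.1 x.2)))⟩ :
      centralizer {π ⟨u, _⟩}))
    fun _ _ e => Subtype.ext (Subtype.ext (congrArg (fun x => (x.1 : RingAut A)) e))

/-- no scalar multiple of `u` is conjugate to `u` -/
theorem cn_mul_le_one (hu : u ∈ I0 F) (hk : ∀ z ∈ ZI F, ∀ v ∈ F.Iso, v * u = z * u * v → z = 1) :
    cn (el hu) * Nat.card (ZI F) ≤ cO F u := by
  rw [← one_mul (cO F u)]
  refine cn_mul_le hu (Finite.card_le_one_iff_subsingleton.2 ⟨fun a b => Subtype.ext ?_⟩)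
  obtain ⟨v, hv, e⟩ := a.2.2
  obtain ⟨w, hw, e'⟩ := b.2.2
  rw [hk _ a.2.1 v hv e, hk _ b.2.1 w hw e']

omit [Finite A] in
theorem ZI_comm {z : Aˣ} (hz : z ∈ ZI F) (x : A) : (z : A) * x = x * z := by
  have h1 : (z : A) * x * (z⁻¹ : Aˣ) = x := DFunLike.congr_fun (MonoidHom.mem_ker.1 hz.2) x
  rw [← Units.mul_inv_eq_iff_eq_mul, h1]

omit [Finite A] in
theorem mem_ZI {z : Aˣ} (h1 : z ∈ F.Iso) (h2 : (z : A) ∈ Subring.center A) : z ∈ ZI F :=
  ⟨h1, RingEquiv.ext fun x => by
    change (z : A) * x * (z⁻¹ : Aˣ) = x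
    rw [← Subring.mem_center_iff.1 h2 x, Units.mul_inv_cancel_right]⟩

/-- the order of `u` is prime to the number of central isometries -/
theorem cn_mul_le_cop (hu : u ∈ I0 F) {m : ℕ} (hm : u ^ m = 1) (hc : m.Coprime (Nat.card (ZI F))) :
    cn (el hu) * Nat.card (ZI F) ≤ cO F u := cn_mul_le_one hu fun z hz v _ e => by
  have h1 : Commute z u := Units.ext (ZI_comm hz u)
  have h2 : (z * u) ^ m = 1 := by
    rw [show z * u = v * u * v⁻¹ by rw [e, mul_inv_cancel_right], conj_pow, hm, mul_one, mul_inv_cancel]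
  rw [h1.mul_pow, hm, mul_one] at h2
  have h3 : z ^ Nat.card (ZI F) = 1 := congrArg Subtype.val (pow_card_eq_one' (x := (⟨z, hz⟩ : ZI F)))
  exact (pow_eq_one_iff_of_coprime hc).1 ⟨h2, h3⟩

/-- isometries commuting with `u` in different cosets of `I0 F` (different determinants, spinor norms) -/
theorem cI_mul_le {ι : Type*} (x : ι → Aˣ) (h1 : ∀ i, x i ∈ F.Iso) (h2 : ∀ i, x i * u = u * x i)
    (h3 : ∀ i j, (x i)⁻¹ * x j ∈ I0 F → i = j) : cI F u * Nat.card ι ≤ cO F u := by
  rw [cI, ← Nat.card_prod]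
  refine Nat.card_le_card_of_injective (fun y => (⟨x y.2 * y.1.1, mul_mem (h1 _) (F.comm_le_Iso y.1.2.1), by
    rw [mul_assoc, y.1.2.2, ← mul_assoc, h2, mul_assoc]⟩ : {v : Aˣ // v ∈ F.Iso ∧ v * u = u * v})) fun y z e => ?_
  have h4 : x y.2 * y.1.1 = x z.2 * z.1.1 := congrArg Subtype.val e
  have h5 : y.2 = z.2 := h3 _ _ (by
    rw [show (x y.2)⁻¹ * x z.2 = y.1.1 * (z.1.1)⁻¹ by rw [eq_mul_inv_iff_mul_eq, mul_assoc, ← h4, inv_mul_cancel_left]]
    exact mul_mem y.1.2.1 (inv_mem z.1.2.1))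
  rw [h5] at h4
  exact Prod.ext (Subtype.ext (mul_left_cancel h4)) h5

omit [Finite A] in
theorem card_sub (F : FR A) (H : Subgroup (RingAut A)) : Nat.card (H.subgroupOf F.S) = Nat.card ↥(H ⊓ F.S) := by
  rw [← inf_subgroupOf_right]
  exact Nat.card_congr (subgroupOfEquivOfLe inf_le_right).toEquiv

/-- **crude criterion** -/
theorem gd_of_cn (hu : u ∈ I0 F) (hH : cj A u ∈ H) {c : ℕ} (h : cn (el hu) ≤ c)
    (hc : c ^ 3 * Nat.card ↥(H ⊓ F.S) ≤ Nat.card F.S) : Gd F H :=
  have := finAut (A := A)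
  N2.good_of_cn (a := el hu) hH h (by rwa [card_sub])

theorem gd_of_cI (hu : u ∈ I0 F) (hH : cj A u ∈ H) {c : ℕ} (h : cI F u ≤ c)
    (hc : c ^ 3 * Nat.card ↥(H ⊓ F.S) ≤ Nat.card F.S) : Gd F H := gd_of_cn hu hH ((cn_le hu).trans h) hc

theorem card_I0 (F : FR A) : Nat.card (I0 F) = Nat.card F.S * Nat.card (pr F).ker := by
  rw [← card_top, ← comap_top (pr F), card_comap _ (pr_surj F), card_top]

theorem card_Lf (F : FR A) (H : Subgroup (RingAut A)) :
    Nat.card (Lf F H) = Nat.card ↥(H ⊓ F.S) * Nat.card (pr F).ker := by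
  rw [← card_sub, ← card_comap _ (pr_surj F)]
  exact (Nat.card_congr (subgroupOfEquivOfLe (inf_le_right : Lf F H ≤ I0 F)).toEquiv).symm.trans
    (by rw [inf_subgroupOf_right]; rfl)

theorem card_S_le (F : FR A) : Nat.card F.S ≤ Nat.card (I0 F) := Nat.card_le_card_of_surjective _ (pr_surj F)

/-- the index, computed in the cover -/
theorem card_Lf_mul (F : FR A) (H : Subgroup (RingAut A)) :
    Nat.card (Lf F H) * (H.subgroupOf F.S).index = Nat.card (I0 F) := by
  rw [card_Lf, card_I0, ← card_sub, ← (H.subgroupOf F.S).card_mul_index]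
  ring

/-- **crude criterion in the cover** -/
theorem gd_of_lift (hu : u ∈ I0 F) (hH : cj A u ∈ H) {c : ℕ} (h : cn (el hu) ≤ c)
    (hc : c ^ 3 * Nat.card (Lf F H) ≤ Nat.card (I0 F)) : Gd F H := by
  refine gd_of_cn hu hH h (Nat.le_of_mul_le_mul_right ?_ (Nat.card_pos (α := (pr F).ker)))
  rwa [card_Lf, card_I0, ← mul_assoc] at hc

/-- **criterion with the conjugates**: `X` contains the conjugates of `cj u` which lie in `H` -/
theorem gd_of_cc (hu : u ∈ I0 F) (hH : cj A u ∈ H) {c d : ℕ} (h : cn (el hu) ≤ c) (X : Set (RingAut A))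
    (hX : ∀ v ∈ I0 F, cj A (v * u * v⁻¹) ∈ H → cj A (v * u * v⁻¹) ∈ X) (hd : X.ncard ≤ d)
    (hc : c ^ 3 * d ≤ Nat.card F.S) : Gd F H := by
  have := finAut (A := A)
  refine good_of_cn_cc (a := el hu) hH h (le_trans ?_ hd) hc
  refine Nat.card_le_card_of_injective (fun g => (⟨g.1, ?_⟩ : X)) fun _ _ e => Subtype.ext (Subtype.ext (congrArg (fun x : X => x.1) e))
  obtain ⟨s, hs⟩ := isConj_iff.1 g.2.1
  obtain ⟨v, rfl⟩ := pr_surj F s
  have h1 : cj A (v * u * v⁻¹) = g.1 := by
    rw [← hs]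
    exact congrArg Subtype.val (show pr F (v * ⟨u, hu⟩ * v⁻¹) = _ by rw [map_mul, map_mul, map_inv]; rfl)
  exact h1 ▸ hX v v.2 (h1 ▸ g.2.2)

/-- **criterion with the conjugates in the cover** -/
theorem gd_of_cc_lift (hu : u ∈ I0 F) (hH : cj A u ∈ H) {c d : ℕ} (h : cI F u ≤ c) (X : Set Aˣ)
    (hX : ∀ v ∈ I0 F, cj A (v * u * v⁻¹) ∈ H → v * u * v⁻¹ ∈ X) (hd : X.ncard ≤ d)
    (hc : c ^ 3 * d ≤ Nat.card (I0 F)) : Gd F H := by
  refine (N2.good_comap (pr F) (pr_surj F) _).1
    (good_of_cn_cc (a := ⟨u, hu⟩) hH ((cn_eq hu).le.trans h) (le_trans ?_ hd) hc)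
  refine Nat.card_le_card_of_injective (fun g => (⟨g.1, ?_⟩ : X)) fun _ _ e => Subtype.ext (Subtype.ext (congrArg (fun x : X => x.1) e))
  obtain ⟨v, hv⟩ := isConj_iff.1 g.2.1
  have h1 : (v : Aˣ) * u * (v : Aˣ)⁻¹ = g.1 := congrArg Subtype.val hv
  exact h1 ▸ hX v v.2 (h1 ▸ g.2.2)

/-! ### commutative centralisers -/

omit [StarRing A] [Finite A] in
/-- the centraliser of `u` in the ring is commutative -/
def IsCyc (u : A) : Prop := ∀ x y : A, x * u = u * x → y * u = u * y → x * y = y * x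

omit [Finite A] in
theorem star_comm {u x : A} (hu : u * star u = 1) (hu' : star u * u = 1) (hx : x * u = u * x) :
    star x * u = u * star x := by
  have h1 := congrArg star hx
  rw [star_mul, star_mul] at h1
  calc star x * u = u * (star u * star x) * u := by rw [← mul_assoc, hu, one_mul]
    _ = u * star x := by rw [h1, mul_assoc, mul_assoc, hu', mul_one]

/-- the centraliser as a type -/
def Cn {u : A} (_h : IsCyc u) : Type := Subring.centralizer ({u} : Set A)

instance Cn.instCommRingN2C {u : A} (h : IsCyc u) : CommRing (Cn h) :=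
  { (inferInstance : Ring (Subring.centralizer ({u} : Set A))) with
    mul_comm := fun x y => Subtype.ext (h _ _ (x.2 u rfl).symm (y.2 u rfl).symm) }

instance Cn.instFiniteN2C {u : A} (h : IsCyc u) : Finite (Cn h) :=
  inferInstanceAs (Finite (Subring.centralizer ({u} : Set A)))

/-- an element of the centraliser -/
def Cn.mk {u : A} (h : IsCyc u) (x : A) (hx : x * u = u * x) : Cn h := ⟨x, by rintro _ rfl; exact hx.symm⟩

/-- the inclusion -/
def Cn.val {u : A} {h : IsCyc u} : Cn h →+* A := (Subring.centralizer ({u} : Set A)).subtype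

omit [StarRing A] [Finite A] in
theorem Cn.val_inj {u : A} {h : IsCyc u} : Function.Injective (Cn.val (h := h)) := Subtype.val_injective

omit [StarRing A] [Finite A] in
theorem Cn.comm {u : A} {h : IsCyc u} (x : Cn h) : Cn.val x * u = u * Cn.val x := (x.2 u rfl).symm

/-- the involution of the centraliser -/
def Cn.sg {u : A} (h : IsCyc u) (hu : u * star u = 1) : Cn h →+* Cn h where
  toFun x := Cn.mk h (star (Cn.val x)) (star_comm hu (mul_eq_one_comm.1 hu) x.comm)
  map_one' := Cn.val_inj (star_one A)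
  map_mul' x y := Cn.val_inj (by
    rw [mul_comm x y]
    exact star_mul _ _)
  map_zero' := Cn.val_inj (star_zero A)
  map_add' x y := Cn.val_inj (star_add _ _)

theorem Cn.val_sg {u : A} (h : IsCyc u) (hu : u * star u = 1) (x : Cn h) : Cn.val (Cn.sg h hu x) = star (Cn.val x) := rfl

theorem Cn.sg_sg {u : A} (h : IsCyc u) (hu : u * star u = 1) (x : Cn h) : Cn.sg h hu (Cn.sg h hu x) = x :=
  Cn.val_inj (star_star _)

theorem cU_eq {u : A} (h : IsCyc u) (hu : u * star u = 1) : cU u = N2.Cy.uu (Cn.sg h hu) :=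
  Nat.card_congr
    { toFun := fun x => ⟨Cn.mk h x.1 x.2.2, Cn.val_inj x.2.1⟩
      invFun := fun x => ⟨Cn.val x.1, congrArg Cn.val x.2, x.1.comm⟩
      left_inv := fun _ => rfl
      right_inv := fun _ => rfl }

/-- the number of skew elements commuting with `u` -/
noncomputable def cS (u : A) : ℕ := Nat.card {x : A // star x = -x ∧ x * u = u * x}

theorem cS_eq {u : A} (h : IsCyc u) (hu : u * star u = 1) : cS u = N2.Cy.sk (Cn.sg h hu) ⊤ :=
  Nat.card_congr
    { toFun := fun x => ⟨Cn.mk h x.1 x.2.2, trivial, Cn.val_inj x.2.1⟩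
      invFun := fun x => ⟨Cn.val x.1, congrArg Cn.val x.2.2, x.1.comm⟩
      left_inv := fun _ => rfl
      right_inv := fun _ => rfl }

omit [StarRing A] in
theorem Cn.isUnit {u : A} {h : IsCyc u} {x : Cn h} (hx : IsUnit (Cn.val x)) : IsUnit x :=
  (IsLeftRegular.isUnit_of_finite) fun a b (e : x * a = x * b) =>
    Cn.val_inj (hx.mul_left_cancel (by rw [← map_mul, ← map_mul, e]))

/-- the centraliser is a field -/
theorem cU_le_field {u : A} (hu : u * star u = 1) (h : IsCyc u) (hf : ∀ x : A, x * u = u * x → x ≠ 0 → IsUnit x)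
    {y : A} (hy : y * u = u * y) (hy' : star y ≠ y) : cU u ≤ cS u + 1 := by
  rw [cU_eq h hu, cS_eq h hu]
  have h1 : N2.Cy.Mi (Cn.sg h hu) ⊤ 1 := ⟨Cn.sg_sg h hu, fun _ _ => trivial, trivial, fun x _ => mul_one x,
    fun J hJ _ _ => by
      obtain ⟨x, hx, h0⟩ := J.exists_mem_ne_zero_of_ne_bot hJ
      exact (J.eq_top_of_isUnit_mem hx (Cn.isUnit (hf _ x.comm fun e => h0 (Cn.val_inj (by rw [e, map_zero]))))).ge⟩
  refine le_trans (le_of_eq (Nat.card_congr (Equiv.subtypeEquivRight fun x => ?_)))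
    (h1.uk_le (y := Cn.mk h y hy) trivial fun e => hy' (congrArg Cn.val e))
  exact ⟨fun k => ⟨k, trivial⟩, fun k => k.1⟩

/-- **the unit lemma in the star ring**.  `E` : symmetric elements commuting with `u` with invertible differences (a field);
`T` : elements `b` such that the centraliser modulo `b` is a field; every maximal ideal with trivial involution contains
one of them -/
theorem cU_le {u : A} (hu : u * star u = 1) (h : IsCyc u) {c : A} (hc : c * u = u * c) (hc' : c + star c = 1)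
    {ι : Type*} (E : ι → A) (hE : ∀ i, E i * u = u * E i) (hE' : ∀ i, star (E i) = E i)
    (hE'' : ∀ i j, i ≠ j → IsUnit (E i - E j)) (T : Finset (Ideal (Cn h)))
    (hT : ∀ M : Ideal (Cn h), M.IsMaximal → (∀ x, x - Cn.sg h hu x ∈ M) → M ∈ T) {ν : ℕ} (h2 : 2 ≤ Nat.card ι)
    (hν : cS u ≤ Nat.card ι ^ ν) : cU u ≤ 2 ^ T.card * (Nat.card ι + 1) ^ ν := by
  rw [cU_eq h hu]
  rw [cS_eq h hu] at hν
  exact N2.Cy.uu_le_pow (c := Cn.mk h c hc) (E := fun i => Cn.mk h (E i) (hE i)) (Cn.sg_sg h hu) (Cn.val_inj hc')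
    (fun i => Cn.val_inj (hE' i)) (fun i j hij => Cn.isUnit (hE'' i j hij)) hT h2 hν

/-- the number of elements commuting with `u` -/
noncomputable def cA (u : A) : ℕ := Nat.card {x : A // x * u = u * x}

omit [StarRing A] [Finite A] in
theorem cA_eq {u : A} (h : IsCyc u) : cA u = Nat.card (Cn h) :=
  Nat.card_congr
    { toFun := fun x => Cn.mk h x.1 x.2
      invFun := fun x => ⟨Cn.val x, x.comm⟩
      left_inv := fun _ => rfl
      right_inv := fun _ => rfl }

/-- there is a skew unit (linear and unitary groups, or `u - u⁻¹` invertible) -/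
theorem cS_sq_le_unit {u : A} (hu : u * star u = 1) (h : IsCyc u) {c δ : A} (hc : c * u = u * c) (hc' : c + star c = 1)
    (hδ : δ * u = u * δ) (hδ' : star δ = -δ) (hδ'' : IsUnit δ) : cS u ^ 2 ≤ cA u := by
  rw [cS_eq h hu, cA_eq h]
  exact N2.Cy.sk_sq_le_unit (c := Cn.mk h c hc) (δ := Cn.mk h δ hδ) (Cn.sg_sg h hu) (Cn.val_inj hc') (Cn.val_inj hδ')
    (Cn.isUnit hδ'')

/-- with a skew unit no maximal ideal has trivial involution -/
theorem cU_le_unit {u : A} (hu : u * star u = 1) (h : IsCyc u) {c θ : A} (hc : c * u = u * c) (hc' : c + star c = 1)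
    (hθ : θ * u = u * θ) (hθ' : IsUnit (θ - star θ))
    {ι : Type*} (E : ι → A) (hE : ∀ i, E i * u = u * E i) (hE' : ∀ i, star (E i) = E i)
    (hE'' : ∀ i j, i ≠ j → IsUnit (E i - E j)) {ν : ℕ} (h2 : 2 ≤ Nat.card ι)
    (hν : cA u ≤ (Nat.card ι ^ ν) ^ 2) : cU u ≤ (Nat.card ι + 1) ^ ν := by
  have h1 := cU_le hu h hc hc' E hE hE' hE'' ∅ (fun M hM k => absurd (M.eq_top_of_isUnit_mem (k (Cn.mk h θ hθ))
    (Cn.isUnit hθ')) hM.ne_top) h2 (ν := ν) ((Nat.pow_le_pow_iff_left two_ne_zero).1 ((cS_sq_le_unit hu h hc hc' (δ := θ - star θ)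
      (by rw [sub_mul, mul_sub, hθ, star_comm hu (mul_eq_one_comm.1 hu) hθ]) (by rw [star_sub, star_star, neg_sub])
      hθ').trans hν))
  simpa using h1

/-- an element of trace one commuting with `u`: no eigenvalue one -/
theorem exists_tr_of_unit {u : A} (hu : u * star u = 1) (h : IsUnit (u - 1)) : ∃ c, c * u = u * c ∧ c + star c = 1 := by
  obtain ⟨w, hw⟩ := h
  have h1 : (w : A) * u = u * w := by rw [hw, sub_mul, mul_sub, one_mul, mul_one]
  have h2 : ((w⁻¹ : Aˣ) : A) * u = u * (w⁻¹ : Aˣ) := by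
    rw [Units.inv_mul_eq_iff_eq_mul, ← mul_assoc, h1, Units.mul_inv_cancel_right]
  refine ⟨-(w⁻¹ : Aˣ), by rw [neg_mul, mul_neg, h2], ?_⟩
  have h3 : star (w : A) * u = -w := by rw [hw, star_sub, star_one, sub_mul, mul_eq_one_comm.1 hu, one_mul, neg_sub]
  have h4 : star ((w⁻¹ : Aˣ) : A) * star (w : A) = 1 := by rw [← star_mul, Units.mul_inv, star_one]
  have h5 : star ((w⁻¹ : Aˣ) : A) = -(u * (w⁻¹ : Aˣ)) := by
    calc star ((w⁻¹ : Aˣ) : A) = -(star ((w⁻¹ : Aˣ) : A) * (star (w : A) * u) * (w⁻¹ : Aˣ)) := by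
          rw [h3, mul_neg, neg_mul, neg_neg, Units.mul_inv_cancel_right]
      _ = _ := by rw [← mul_assoc, h4, one_mul]
  rw [star_neg, h5, neg_neg, neg_add_eq_sub, ← Units.mul_inv w, hw, sub_mul, one_mul]

/-- an element of trace one commuting with `u`: odd characteristic -/
theorem exists_tr_of_two (h : IsUnit (2 : A)) (u : A) : ∃ c, c * u = u * c ∧ c + star c = 1 := by
  obtain ⟨w, hw⟩ := h
  have h1 : (w : A) * u = u * w := by rw [hw, two_mul, mul_two]
  have h2 : star ((w⁻¹ : Aˣ) : A) = (w⁻¹ : Aˣ) := by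
    have h3 : star ((w⁻¹ : Aˣ) : A) * w = 1 := by
      rw [show (w : A) = star (w : A) by rw [hw, star_ofNat], ← star_mul, Units.mul_inv, star_one]
    rw [← Units.mul_left_inj w, h3, Units.inv_mul]
  refine ⟨(w⁻¹ : Aˣ), by rw [Units.inv_mul_eq_iff_eq_mul, ← mul_assoc, h1, Units.mul_inv_cancel_right], ?_⟩
  rw [h2, ← two_mul, ← hw, Units.mul_inv]

/-- an element of trace one commuting with `u`: semisimple elements -/
theorem exists_tr_of_pow (F : FR A) {u : A} (hu : u * star u = 1) {m : ℕ} (hm : u ^ m = 1) (h : IsUnit (m : A)) :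
    ∃ c, c * u = u * c ∧ c + star c = 1 := by
  obtain ⟨w, hw⟩ := h
  have hu' := mul_eq_one_comm.1 hu
  have h0 : ∀ x : A, (w : A) * x = x * w := fun x => by rw [hw, Nat.cast_comm]
  have h1 : ∀ x : A, ((w⁻¹ : Aˣ) : A) * x = x * (w⁻¹ : Aˣ) := fun x => by
    rw [Units.inv_mul_eq_iff_eq_mul, ← mul_assoc, h0, Units.mul_inv_cancel_right]
  have h2 : star ((w⁻¹ : Aˣ) : A) = (w⁻¹ : Aˣ) := by
    have h3 : star ((w⁻¹ : Aˣ) : A) * w = 1 := by
      rw [show (w : A) = star (w : A) by rw [hw, star_natCast], ← star_mul, Units.mul_inv, star_one]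
    rw [← Units.mul_left_inj w, h3, Units.inv_mul]
  have h3 : ∀ i : ℕ, u ^ i * star u ^ i = 1 := fun i => by
    rw [← (show Commute u (star u) from hu.trans hu'.symm).mul_pow, hu, one_pow]
  let s := ∑ i ∈ Finset.range m, u ^ i * F.l * star u ^ i
  have h4 : u * s * star u = s := by
    have h5 := Finset.sum_range_succ' (fun i => u ^ i * F.l * star u ^ i) m
    rw [Finset.sum_range_succ, ← star_pow, hm, star_one, pow_zero, pow_zero] at h5
    rw [Finset.mul_sum, Finset.sum_mul]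
    refine Eq.trans (Finset.sum_congr rfl fun i _ => ?_) (add_right_cancel h5).symm
    rw [pow_succ', pow_succ]
    simp only [mul_assoc]
  refine ⟨(w⁻¹ : Aˣ) * s, ?_, ?_⟩
  · rw [mul_assoc, ← mul_assoc u, ← h1, mul_assoc]
    congr 1
    conv_lhs => rw [← h4]
    rw [mul_assoc, hu', mul_one]
  · rw [star_mul, h2, ← h1, ← mul_add, Units.inv_mul_eq_iff_eq_mul, mul_one, hw, star_sum, ← Finset.sum_add_distrib,
      Finset.sum_congr rfl (g := fun _ => 1) fun i _ => by
        rw [star_mul, star_mul, star_pow, star_star, star_pow, ← mul_assoc, ← add_mul, ← mul_add, F.l_add, mul_one, h3]]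
    simp

end Cfsg.Agent.N2C.Cyc
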